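import Groth.Agent.SBTw92.Main

/-!
# Indices of tensor powers
-/

set_option autoImplicit false

universe u

open scoped TensorProduct

namespace Groth.Agent.SBTw92

open Groth.Agent Groth.Agent.CSALib

variable {k : Type u} [Field k] {A : Type u} [Ring A] [Algebra k A] [Algebra.IsCentral k A] [IsSimpleRing A]
  [FiniteDimensional k A]

theorem isIndex_one_of_split {i : ℕ} (h : Similar k (⨂[k] _i : Fin i, A) k) :
    CSAGal.IsIndex k (CSAGal.tpow k A i) 1 := by
  obtain ⟨_, _, _⟩ := centralSimple_pow k A i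
  exact isIndex_of_similar (D' := k) (by rw [Module.finrank_self, one_pow]) h

theorem index_pow_unique {i : ℕ} {r r' : ℕ} (h : CSAGal.IsIndex k (CSAGal.tpow k A i) r)
    (h' : CSAGal.IsIndex k (CSAGal.tpow k A i) r') : r = r' := by
  obtain ⟨_, _, _⟩ := centralSimple_pow k A i
  exact isIndex_unique h h'

/-- The index of `A^|j|` depends only on `j` modulo the period. -/
theorem index_eq_of_dvd_sub {p : ℕ} (hp : CSAGal.IsPeriod k A p) {a b : ℤ} (h : (p : ℤ) ∣ b - a)
    {r r' : ℕ} (ha : CSAGal.IsIndex k (CSAGal.tpow k A a.natAbs) r)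
    (hb : CSAGal.IsIndex k (CSAGal.tpow k A b.natAbs) r') : r = r' := by
  obtain ⟨_, _, _⟩ := centralSimple_pow k A a.natAbs
  obtain ⟨_, _, _⟩ := centralSimple_pow k A b.natAbs
  have hp0 : Similar k (⨂[k] _i : Fin p, A) k := (isPeriod_iff hp p).2 dvd_rfl
  have hcase : (p : ℤ) ∣ (b.natAbs : ℤ) - a.natAbs ∨ (p : ℤ) ∣ (a.natAbs : ℤ) + b.natAbs := by
    rcases Int.natAbs_eq a with ha' | ha' <;> rcases Int.natAbs_eq b with hb' | hb'
    · left; rwa [← ha', ← hb']
    · right
      rw [show (a.natAbs : ℤ) + b.natAbs = -(b - a) by omega]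
      exact dvd_neg.2 h
    · right
      rw [show (a.natAbs : ℤ) + b.natAbs = b - a by omega]
      exact h
    · left
      rw [show (b.natAbs : ℤ) - a.natAbs = -(b - a) by omega]
      exact dvd_neg.2 h
  rcases hcase with hc | hc
  · exact isIndex_unique ha (isIndex_congr hb (similar_pow_of_modEq hp0 (Nat.modEq_iff_dvd.2 hc)))
  · exact index_eq_of_tensor_split ha hb
      ((similar_pow_add k A _ _).symm.trans ((isPeriod_iff hp _).2 (by exact_mod_cast hc)))

omit [FiniteDimensional k A] in
/-- If `A` is similar to a power of `B`, the index of `A^t` divides that of `B^t`. -/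
theorem index_dvd_of_similar_pow [FiniteDimensional k A] {B : Type u} [Ring B] [Algebra k B]
    [Algebra.IsCentral k B] [IsSimpleRing B] [FiniteDimensional k B] {i t : ℕ}
    (h : Similar k (⨂[k] _i : Fin i, B) A) {r r' : ℕ} (hr : CSAGal.IsIndex k (CSAGal.tpow k A t) r)
    (hr' : CSAGal.IsIndex k (CSAGal.tpow k B t) r') : r ∣ r' := by
  obtain ⟨_, _, _⟩ := centralSimple_pow k B t
  obtain ⟨_, _, _⟩ := centralSimple_pow k (CSAGal.tpow k B t) i
  obtain ⟨_, _, _⟩ := centralSimple_pow k A t
  refine index_pow_dvd hr' i (isIndex_congr hr ?_)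
  exact ((similar_pow_mul (A := B) t i).symm.trans (by rw [mul_comm]; exact (similar_pow_mul (A := B) i t).trans (h.pow t)))

end Groth.Agent.SBTw92
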