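import Groth.Agent.SBTw92.Decomp
import Groth.Agent.Pn90.Split

/-!
# Index two and prime degree
-/

set_option autoImplicit false
set_option backward.isDefEq.respectTransparency false
set_option backward.isDefEq.respectTransparency.types false

universe u

open CategoryTheory CategoryTheory.Limits AlgebraicGeometry TopologicalSpace Opposite
open scoped TensorProduct

noncomputable section

namespace Groth.Agent.SBTw92

open Groth.Agent Groth.Agent.CSALib

/-- Splitting a finite sum along a predicate. -/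
theorem exists_partition {C : Type*} [Category C] [Preadditive C] [HasFiniteCoproducts C] [HasBinaryBiproducts C]
    {t : ℕ} (Ms : Fin t → C) (P : Fin t → Prop) :
    ∃ (a b : ℕ) (α : Fin a → Fin t) (β : Fin b → Fin t), (∀ i, P (α i)) ∧ (∀ i, ¬ P (β i)) ∧
      Nonempty ((∐ Ms) ≅ (∐ fun i => Ms (α i)) ⊞ (∐ fun i => Ms (β i))) := by
  classical
  let ea := Fintype.equivFin {i // P i}
  let eb := Fintype.equivFin {i // ¬ P i}
  refine ⟨_, _, fun i => (ea.symm i).1, fun i => (eb.symm i).1, fun i => (ea.symm i).2, fun i => (eb.symm i).2,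
    ⟨((KS92.appendIso _ _) ≪≫ Sigma.whiskerEquiv (finSumFinEquiv.symm.trans
      ((Equiv.sumCongr ea.symm eb.symm).trans (Equiv.sumCompl P))) fun q => eqToIso ?_).symm⟩⟩
  induction q using Fin.addCases with
  | left i => simp
  | right i => simp

section Algebra

variable {k : Type u} [Field k] {A : Type u} [Ring A] [Algebra k A] [Algebra.IsCentral k A] [IsSimpleRing A]
  [FiniteDimensional k A]

/-- The index of a nonsplit algebra of prime degree is the degree. -/
theorem isIndex_of_prime {q : ℕ} (hq : q.Prime) (hA : Module.finrank k A = q * q)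
    (hns : ¬ Curves.Splits k A k) : CSAGal.IsIndex k A q := by
  obtain ⟨d, hd⟩ := exists_isIndex k A
  have hd' := hd
  obtain ⟨-, m, D, _, _, hm, hdim, ⟨e⟩⟩ := hd'
  have h := e.toLinearEquiv.finrank_eq
  rw [Module.finrank_matrix, hA, hdim, Fintype.card_fin,
    show m * m * d ^ 2 = (m * d) * (m * d) by ring] at h
  rcases (Nat.dvd_prime hq).1 (Dvd.intro_left m (Nat.mul_self_inj.1 h).symm) with h1 | h1
  · exact (hns (splits_self_iff.2 (similar_of_index_one (h1 ▸ hd)))).elim
  · exact h1 ▸ hd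

/-- Powers of an algebra of prime index. -/
theorem index_pow_prime {q : ℕ} (hq : q.Prime) (hA : CSAGal.IsIndex k A q) {i r : ℕ}
    (hr : CSAGal.IsIndex k (CSAGal.tpow k A i) r) : r = q / Nat.gcd q i := by
  obtain ⟨_, _, _⟩ := centralSimple_pow k A i
  have hq0 := similar_pow_index hA
  by_cases hqi : q ∣ i
  · obtain ⟨c, rfl⟩ := hqi
    rw [Nat.gcd_eq_left (dvd_mul_right q c), Nat.div_self hq.pos]
    exact index_pow_unique hr (isIndex_one_of_split (pow_mul_split hq0 c))
  · have hg : Nat.gcd q i = 1 := hq.coprime_iff_not_dvd.2 hqi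
    rw [hg, Nat.div_one]
    refine ((Nat.dvd_prime hq).1 (index_pow_dvd hA i hr)).resolve_left fun h1 => ?_
    have hg1 := pow_gcd_split hq.pos hq0 (similar_of_index_one (h1 ▸ hr))
    rw [hg] at hg1
    exact hq.one_lt.ne' (isIndex_unique hA
      (isIndex_of_similar (D' := k) (by rw [Module.finrank_self, one_pow]) ((similar_pow_one k A).symm.trans hg1)))

end Algebra

variable {k : Type u} [Field k] {K : Type u} [Field K] [Algebra k K] [IsAlgClosure k K]
  {X : Scheme.{u}} [X.Over (Spec (CommRingCat.of k))] [IsProper (X ↘ Spec (CommRingCat.of k))]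
  {A : Type u} [Ring A] [Algebra k A] [Algebra.IsCentral k A] [IsSimpleRing A] {m : ℕ}

local notation "fX" => (X ↘ Spec (CommRingCat.of k))

/-- Decomposition for algebras of index two. -/
theorem exists_decomposition_index_two (hA : Module.finrank k A = (m + 1) * (m + 1))
    (hs : BrSev.IsSBOf k A ((m + 1) * (m + 1) - (m + 1)) fX) (e : BrSev.Splitting fX K m)
    (hi : CSAGal.IsIndex k A 2) {E : X.Modules} (hE : FlatMod.IsFinLocFree E)
    {s₀ : ℕ} (Ns : Fin s₀ → (BrSev.bc fX K).Modules) (hNs : ∀ i, PicF.IsInvertible (Ns i))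
    (σ : BrSev.bcMod fX K E ≅ ∐ Ns) :
    ∃ (s t : ℕ) (Ls : Fin s → X.Modules) (Ms : Fin t → X.Modules) (a : Fin s → ℤ) (b : Fin t → ℤ),
      (∀ i, PicF.IsInvertible (Ls i) ∧ BrSev.IsTwPow e (2 * a i) 1 (Ls i)) ∧
      (∀ i, FlatMod.IsFinLocFree (Ms i) ∧ KS92.Indec (Ms i) ∧ BrSev.IsTwPow e (2 * b i + 1) 2 (Ms i)) ∧
      Nonempty (E ≅ (∐ Ls) ⊞ (∐ Ms)) := by
  haveI : FiniteDimensional k A := Module.finite_of_finrank_pos (by rw [hA]; positivity)
  obtain ⟨t, Ms, js, rs, h, ⟨φ⟩⟩ := exists_decomposition hA hs e hE Ns hNs σ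
  have hr : ∀ i, rs i = 2 / Nat.gcd 2 (js i).natAbs := fun i =>
    index_pow_prime Nat.prime_two hi (isIndex_natAbs hA hs (e := e) (h i).1 (h i).2.1 (h i).2.2.2)
  obtain ⟨a, b, α, β, hα, hβ, ⟨ψ⟩⟩ := exists_partition Ms fun i => (2 : ℤ) ∣ js i
  choose ca hca using hα
  refine ⟨a, b, fun i => Ms (α i), fun i => Ms (β i), ca, fun i => js (β i) / 2, fun i => ?_, fun i => ?_, ⟨φ ≪≫ ψ⟩⟩
  · have h2 : Nat.gcd 2 (js (α i)).natAbs = 2 := Nat.gcd_eq_left (Int.natCast_dvd.1 ⟨ca i, hca i⟩)
    have h1 : rs (α i) = 1 := by rw [hr, h2]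
    have ht := (h (α i)).2.2.2
    rw [h1, hca] at ht
    obtain ⟨g⟩ := ht
    exact ⟨isInvertible_of_pullback (h (α i)).1 (isInvertible_twist e _) (g ≪≫ coproductUniqueIso _), ⟨g⟩⟩
  · have h2 : Nat.gcd 2 (js (β i)).natAbs = 1 :=
      Nat.prime_two.coprime_iff_not_dvd.2 fun hc => hβ i (Int.natCast_dvd.2 hc)
    have h1 : rs (β i) = 2 := by rw [hr, h2]
    have ht := (h (β i)).2.2.2
    have hodd : 2 * (js (β i) / 2) + 1 = js (β i) := by
      have := hβ i; omega
    rw [h1] at ht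
    exact ⟨(h (β i)).1, (h (β i)).2.1, hodd.symm ▸ ht⟩

/-- Locally free modules on a form of the projective line are absolutely split. -/
theorem exists_split_curve (e : BrSev.Splitting fX K 1) {E : X.Modules} (hE : FlatMod.IsFinLocFree E) :
    ∃ (s : ℕ) (Ls : Fin s → (BrSev.bc fX K).Modules), (∀ i, PicF.IsInvertible (Ls i)) ∧
      Nonempty (BrSev.bcMod fX K E ≅ ∐ Ls) := by
  haveI : IsAlgClosed K := IsAlgClosure.isAlgClosed k
  have hP : FlatMod.IsFinLocFree ((Scheme.Modules.pullback e.iso.inv).obj (BrSev.bcMod fX K E)) :=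
    KFlatLib.isFinLocFree_pullback _ (KFlatLib.isFinLocFree_pullback _ hE)
  obtain ⟨r, a, ⟨g⟩⟩ := Pn90.exists_iso_coprod (k := K) (n := 1) le_rfl (CurveDeg.isCoh_of_isFinLocFree hP)
    (fun i d h0 h1 => absurd h1 (by omega)) (Pn90.exists_H0_vanishing le_rfl hP)
  exact ⟨r, fun i => e.twist (a i), fun i => isInvertible_twist e (a i),
    ⟨((Scheme.Modules.pullbackId _).app _).symm ≪≫
      (Scheme.Modules.pullbackCongr e.iso.hom_inv_id.symm).app _ ≪≫
      ((Scheme.Modules.pullbackComp e.iso.hom e.iso.inv).app _).symm ≪≫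
      (Scheme.Modules.pullback e.iso.hom).mapIso g ≪≫ PreservesCoproduct.iso (Scheme.Modules.pullback e.iso.hom) _⟩⟩

end Groth.Agent.SBTw92
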