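import Groth.Agent.PnCoh.Finite.TwistTensor
import Groth.Agent.H23.PicMul
import Groth.Agent.KFlatLib.Scheme.ProjModule
import Groth.Agent.KRRLib.PnBC.Twist
import Groth.Prelude.Def_BrSev

/-!
# Tensor products of modules of twisting type
-/

set_option autoImplicit false
set_option backward.isDefEq.respectTransparency false
set_option backward.isDefEq.respectTransparency.types false

universe u

open CategoryTheory CategoryTheory.Limits AlgebraicGeometry

namespace Groth.Agent.SBTw92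

open Groth.Agent

variable {Y : Scheme.{u}}

/-- `M^r ⊗ N^s ≅ (M ⊗ N)^(r s)`. -/
theorem nonempty_tensor_pow (M N : Y.Modules) (r s : ℕ) :
    Nonempty (CohB1.tensorMod (BrSev.pow M r) (BrSev.pow N s) ≅ BrSev.pow (CohB1.tensorMod M N) (r * s)) := by
  haveI : PreservesColimitsOfSize.{0, 0} (DCoh.tensorBi.obj (BrSev.pow M r)) := ⟨fun {K} _ => inferInstance⟩
  haveI : PreservesColimitsOfSize.{0, 0} (DCoh.tensorBi.flip.obj N) := ⟨fun {K} _ => inferInstance⟩
  let e₁ := PreservesCoproduct.iso (DCoh.tensorBi.obj (BrSev.pow M r)) (fun _ : Fin s => N)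
  let e₂ : (DCoh.tensorBi.obj (BrSev.pow M r)).obj N ≅ ∐ fun _ : Fin r => (DCoh.tensorBi.obj M).obj N :=
    PreservesCoproduct.iso (DCoh.tensorBi.flip.obj N) (fun _ : Fin r => M)
  exact ⟨e₁ ≪≫ Sigma.mapIso (fun _ => e₂) ≪≫
    { hom := Sigma.desc fun i => Sigma.desc fun x => Sigma.ι (fun _ : Fin s × Fin r => (DCoh.tensorBi.obj M).obj N) (i, x)
      inv := Sigma.desc fun q => Sigma.ι (fun _ : Fin r => (DCoh.tensorBi.obj M).obj N) q.2 ≫
        Sigma.ι (fun _ : Fin s => ∐ fun _ : Fin r => (DCoh.tensorBi.obj M).obj N) q.1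
      hom_inv_id := Sigma.hom_ext _ _ fun i => Sigma.hom_ext _ _ fun x => by simp
      inv_hom_id := Sigma.hom_ext _ _ fun q => by simp } ≪≫
    Sigma.whiskerEquiv (f := fun _ : Fin s × Fin r => CohB1.tensorMod M N) (g := fun _ : Fin (r * s) => CohB1.tensorMod M N)
      ((Equiv.prodComm _ _).trans finProdFinEquiv) (fun _ => Iso.refl _)⟩

/-- `O(a) ⊗ O(b) ≅ O(a + b)` on projective space. -/
theorem nonempty_twist_tensor (n : ℕ) (K : Type u) [CommRing K] (a b : ℤ) :
    Nonempty (CohB1.tensorMod (Twist.twistProjSpace n K a) (Twist.twistProjSpace n K b) ≅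
      Twist.twistProjSpace n K (a + b)) :=
  PnCoh.Finite.twistBy_twist_iso (fun j : ULift.{u} (Fin (n + 1)) => MvPolynomial.X j.down) (fun j => ProjPt.X_mem j.down)
    (KRRLib.PnBC.iSup_basicOpen n K) a b

/-- The tensor product of modules of types `O(j)^r` and `O(l)^s` has type `O(j + l)^(r s)`. -/
theorem isTwPow_tensor {k : Type u} [Field k] {X : Scheme.{u}} {f : X ⟶ Spec (CommRingCat.of k)} {n : ℕ}
    {K : Type u} [Field K] [Algebra k K] (e : BrSev.Splitting f K n) (j l : ℤ) (r s : ℕ) (W W' : X.Modules)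
    (hW : BrSev.IsTwPow e j r W) (hW' : BrSev.IsTwPow e l s W') :
    BrSev.IsTwPow e (j + l) (r * s) (CohB1.tensorMod W W') := by
  obtain ⟨eW⟩ := hW
  obtain ⟨eW'⟩ := hW'
  obtain ⟨p⟩ := H23.PicMul.pull (BrSev.proj f K) W W'
  obtain ⟨t⟩ := nonempty_tensor_pow (e.twist j) (e.twist l) r s
  obtain ⟨q⟩ := H23.PicMul.pull e.iso.hom (Twist.twistProjSpace n K j) (Twist.twistProjSpace n K l)
  obtain ⟨w⟩ := nonempty_twist_tensor n K j l
  exact ⟨p ≪≫ PicGrp.tensorModIso eW eW' ≪≫ t ≪≫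
    Sigma.mapIso fun _ => q.symm ≪≫ (Scheme.Modules.pullback e.iso.hom).mapIso w⟩

end Groth.Agent.SBTw92
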