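import Groth.Agent.Pn90.Pic
import Groth.Agent.SBTw92.Tensor
import Groth.Agent.VBCurvesLib.Embed
import Groth.Prelude.Def_BrSev

/-!
# Twisting sheaves do not depend on the splitting
-/

set_option autoImplicit false
set_option backward.isDefEq.respectTransparency false
set_option backward.isDefEq.respectTransparency.types false

universe u

open CategoryTheory CategoryTheory.Limits AlgebraicGeometry TopologicalSpace Opposite

noncomputable section

namespace Groth.Agent.SBTw92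

open Groth.Agent

variable {k : Type u} [Field k] {n : ℕ}

local notation "O" => Pn90.O k n

/-- A non-zero map between twists goes upwards. -/
theorem nontrivial_hom_iff (hn : 1 ≤ n) (a : ℤ) :
    (Nontrivial (Coh.structureModule (Pn90.P k n) ⟶ O a)) ↔ 0 ≤ a := by
  constructor
  · intro h
    by_contra ha
    haveI := Pn90.subsingleton_H0_O (k := k) hn (d := a) (by omega)
    obtain ⟨f, g, hfg⟩ := h
    exact hfg ((VBCurvesLib.homEquivHH (O a)).symm.injective (Subsingleton.elim _ _))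
  · intro h
    haveI := Pn90.nontrivial_H0_O (k := k) (n := n) h
    exact (VBCurvesLib.homEquivHH (O a)).symm.nontrivial

theorem nontrivial_hom_congr {C : Type*} [Category C] {A A' B B' : C} (i : A ≅ A') (j : B ≅ B')
    (h : Nontrivial (A ⟶ B)) : Nontrivial (A' ⟶ B') :=
  (i.homCongr j).symm.nontrivial

theorem O_inj (hn : 1 ≤ n) {a b : ℤ} (h : Nonempty (O a ≅ O b)) : a = b := by
  have key : ∀ {a b : ℤ}, Nonempty (O a ≅ O b) → a ≤ b := by
    intro a b ⟨h⟩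
    by_contra hab
    obtain ⟨t₀⟩ := nonempty_twist_tensor n k a (-a)
    obtain ⟨t₁⟩ := nonempty_twist_tensor n k b (-a)
    have i : O 0 ≅ O (b + -a) :=
      eqToIso (by rw [add_neg_cancel]) ≪≫ t₀.symm ≪≫ PicGrp.tensorModIso h (Iso.refl _) ≪≫ t₁
    have h0 := (nontrivial_hom_iff (k := k) hn 0).2 le_rfl
    have := (nontrivial_hom_iff (k := k) hn (b + -a)).1 (nontrivial_hom_congr (Iso.refl _) i h0)
    omega
  exact le_antisymm (key h) (key ⟨h.some.symm⟩)

theorem O_iso_of_zero (a : ℤ) : Nonempty (Pn90.O k 0 a ≅ Pn90.O k 0 0) := by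
  classical
  have key : ∀ a : ℤ, Nonempty (Coh.structureModule (Pn90.P k 0) ≅ Pn90.O k 0 a) := fun a => by
    obtain ⟨s, hs, -⟩ := Pn90.exists_frame_O (k := k) (n := 0) a 0
    have hW : ∀ x, x ∈ Pn90.W k 0 0 := fun x => by
      have hx : x ∈ ⨆ i : ULift.{u} (Fin 1), Proj.basicOpen (CohB1.polyGrading 0 k) (MvPolynomial.X i.down) :=
        (KRRLib.PnBC.iSup_basicOpen 0 k).symm ▸ (trivial : x ∈ (⊤ : (Pn90.P k 0).Opens))
      obtain ⟨i, hi⟩ := Opens.mem_iSup.1 hx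
      have : i.down = 0 := Subsingleton.elim _ _
      rw [this] at hi
      exact hi
    exact Pn90.nonempty_iso_of_frames (fun _ : PUnit.{u + 1} => Pn90.W k 0 0) (fun x => ⟨⟨⟩, hW x⟩)
      (fun _ => (show Γ(Coh.structureModule (Pn90.P k 0), Pn90.W k 0 0) from (1 : Γ(Pn90.P k 0, Pn90.W k 0 0))))
      (fun _ => s) (fun _ => InvX.isFrame_one _) (fun _ => hs)
      fun _ _ => ⟨_, le_rfl, le_rfl, inf_le_left, 1, by rw [one_smul], by rw [one_smul]⟩
  exact ⟨(key a).some.symm ≪≫ (key 0).some⟩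

/-- Pullback along an automorphism, with the degree of the pullback of `O(1)`. -/
theorem pullback_O_mul (g : Pn90.P k n ≅ Pn90.P k n) {d : ℤ}
    (hd : Nonempty ((Scheme.Modules.pullback g.hom).obj (O 1) ≅ O d)) (j : ℤ) :
    Nonempty ((Scheme.Modules.pullback g.hom).obj (O j) ≅ O (j * d)) := by
  let F := Scheme.Modules.pullback g.hom
  obtain ⟨z⟩ := Pn90.O_zero (k := k) (n := n)
  obtain ⟨z'⟩ := PicClLib.nonempty_pullback_structureModule g.hom
  have h0 : Nonempty (F.obj (O 0) ≅ O (0 * d)) :=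
    ⟨F.mapIso z ≪≫ z' ≪≫ z.symm ≪≫ eqToIso (by rw [zero_mul])⟩
  have hadd : ∀ a b : ℤ, Nonempty (F.obj (O a) ≅ O (a * d)) → Nonempty (F.obj (O b) ≅ O (b * d)) →
      Nonempty (F.obj (O (a + b)) ≅ O ((a + b) * d)) := fun a b ⟨x⟩ ⟨y⟩ => by
    obtain ⟨t⟩ := nonempty_twist_tensor n k a b
    obtain ⟨t'⟩ := nonempty_twist_tensor n k (a * d) (b * d)
    obtain ⟨p⟩ := H23.PicMul.pull g.hom (O a) (O b)
    exact ⟨F.mapIso t.symm ≪≫ p ≪≫ PicGrp.tensorModIso x y ≪≫ t' ≪≫ eqToIso (by rw [add_mul])⟩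
  have hnat : ∀ a : ℕ, Nonempty (F.obj (O (a : ℤ)) ≅ O ((a : ℤ) * d)) := by
    intro a
    induction a with
    | zero => exact_mod_cast h0
    | succ a ih =>
      obtain ⟨q⟩ := hadd a 1 ih (by simpa using hd)
      exact ⟨eqToIso (by push_cast; rfl) ≪≫ q ≪≫ eqToIso (by push_cast; rfl)⟩
  obtain ⟨a, rfl | rfl⟩ := j.eq_nat_or_neg
  · exact hnat a
  obtain ⟨x⟩ := hnat a
  obtain ⟨z₀⟩ := h0
  obtain ⟨t⟩ := nonempty_twist_tensor n k (-(a : ℤ)) (a : ℤ)
  obtain ⟨p⟩ := H23.PicMul.pull g.hom (O (-(a : ℤ))) (O (a : ℤ))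
  obtain ⟨t'⟩ := nonempty_twist_tensor n k ((a : ℤ) * d) (-(a : ℤ) * d)
  obtain ⟨u⟩ := H23.PicMul.unit (F.obj (O (-(a : ℤ))))
  obtain ⟨as⟩ := H23.PicMul.assoc (F.obj (O (-(a : ℤ)))) (O ((a : ℤ) * d)) (O (-(a : ℤ) * d))
  obtain ⟨u'⟩ := H23.PicMul.unit (O (-(a : ℤ) * d))
  obtain ⟨cm⟩ := H23.PicMul.comm (Coh.structureModule (Pn90.P k n)) (O (-(a : ℤ) * d))
  let e₁ : CohB1.tensorMod (F.obj (O (-(a : ℤ)))) (O ((a : ℤ) * d)) ≅ Coh.structureModule (Pn90.P k n) :=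
    PicGrp.tensorModIso (Iso.refl _) x.symm ≪≫ p.symm ≪≫ F.mapIso t ≪≫
      eqToIso (by rw [neg_add_cancel]) ≪≫ z₀ ≪≫ eqToIso (by rw [zero_mul]) ≪≫ z
  let e₂ : CohB1.tensorMod (O ((a : ℤ) * d)) (O (-(a : ℤ) * d)) ≅ Coh.structureModule (Pn90.P k n) :=
    t' ≪≫ eqToIso (by rw [← add_mul, add_neg_cancel, zero_mul]) ≪≫ z
  exact ⟨u.symm ≪≫ PicGrp.tensorModIso (Iso.refl _) e₂.symm ≪≫ as.symm ≪≫
    PicGrp.tensorModIso e₁ (Iso.refl _) ≪≫ cm ≪≫ u'⟩

/-- Automorphisms of projective space fix every twisting sheaf. -/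
theorem nonempty_pullback_O (g : Pn90.P k n ≅ Pn90.P k n) (j : ℤ) :
    Nonempty ((Scheme.Modules.pullback g.hom).obj (O j) ≅ O j) := by
  obtain rfl | hn := Nat.eq_zero_or_pos n
  · obtain ⟨d, hd⟩ := Pn90.exists_iso_O (PicClLib.isInvertible_pullback g.hom (Pn90.isInvertible_O (k := k) (n := 0) 1))
    obtain ⟨q⟩ := pullback_O_mul g hd j
    obtain ⟨x⟩ := O_iso_of_zero (k := k) (j * d)
    obtain ⟨y⟩ := O_iso_of_zero (k := k) j
    exact ⟨q ≪≫ x ≪≫ y.symm⟩
  obtain ⟨d, hd⟩ := Pn90.exists_iso_O (PicClLib.isInvertible_pullback g.hom (Pn90.isInvertible_O (k := k) (n := n) 1))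
  obtain ⟨d', hd'⟩ := Pn90.exists_iso_O (PicClLib.isInvertible_pullback g.inv (Pn90.isInvertible_O (k := k) (n := n) 1))
  let E : Scheme.Modules.pullback g.hom ⋙ Scheme.Modules.pullback g.inv ≅ 𝟭 _ :=
    Scheme.Modules.pullbackComp g.inv g.hom ≪≫ Scheme.Modules.pullbackCongr g.inv_hom_id ≪≫
      Scheme.Modules.pullbackId _
  have hdd : d * d' = 1 := by
    obtain ⟨q⟩ := pullback_O_mul g.symm hd' d
    exact (O_inj hn ⟨((E.app (O 1)).symm ≪≫ (Scheme.Modules.pullback g.inv).mapIso hd.some) ≪≫ q⟩).symm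
  have hd1 : d = 1 := by
    rcases Int.eq_one_or_neg_one_of_mul_eq_one hdd with h | h
    · exact h
    exfalso
    obtain ⟨f₀, g₀, hfg⟩ := (nontrivial_hom_iff (k := k) hn 1).2 zero_le_one
    obtain ⟨z'⟩ := PicClLib.nonempty_pullback_structureModule g.hom
    haveI : (Scheme.Modules.pullback g.hom ⋙ Scheme.Modules.pullback g.inv).Faithful := Functor.Faithful.of_iso E.symm
    haveI : (Scheme.Modules.pullback g.hom).Faithful :=
      Functor.Faithful.of_comp (Scheme.Modules.pullback g.hom) (Scheme.Modules.pullback g.inv)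
    have h1 : Nontrivial ((Scheme.Modules.pullback g.hom).obj (Coh.structureModule _) ⟶
        (Scheme.Modules.pullback g.hom).obj (O 1)) :=
      ⟨_, _, fun he => hfg ((Scheme.Modules.pullback g.hom).map_injective he)⟩
    have h2 := (nontrivial_hom_iff (k := k) hn d).1 (nontrivial_hom_congr z' hd.some h1)
    omega
  obtain ⟨q⟩ := pullback_O_mul g hd j
  exact ⟨q ≪≫ eqToIso (by rw [hd1, mul_one])⟩

variable {K : Type u} [Field K] [Algebra k K] {X : Scheme.{u}} {f : X ⟶ Spec (CommRingCat.of k)}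

/-- Twisting sheaves do not depend on the splitting. -/
theorem nonempty_twist_iso (e e' : BrSev.Splitting f K n) (j : ℤ) : Nonempty (e.twist j ≅ e'.twist j) := by
  obtain ⟨i⟩ := nonempty_pullback_O (e.iso.symm ≪≫ e'.iso) j
  exact ⟨(Scheme.Modules.pullback e.iso.hom).mapIso i.symm ≪≫
    (Scheme.Modules.pullbackComp e.iso.hom (e.iso.symm ≪≫ e'.iso).hom).app _ ≪≫
    (Scheme.Modules.pullbackCongr (e.iso.hom_inv_id_assoc e'.iso.hom)).app _⟩

/-- Types do not depend on the splitting. -/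
theorem isTwPow_congr {e : BrSev.Splitting f K n} (e' : BrSev.Splitting f K n) {j : ℤ} {r : ℕ} {W : X.Modules}
    (h : BrSev.IsTwPow e j r W) : BrSev.IsTwPow e' j r W := by
  obtain ⟨i⟩ := h
  obtain ⟨t⟩ := nonempty_twist_iso e e' j
  exact ⟨i ≪≫ Sigma.mapIso fun _ => t⟩

end Groth.Agent.SBTw92
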