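import Groth.Agent.SBTw92.Taut
import Groth.Agent.BrauerXSB.Iso

/-!
# The tautological module over the standard charts of a splitting
-/

set_option autoImplicit false
set_option backward.isDefEq.respectTransparency false
set_option backward.isDefEq.respectTransparency.types false

universe u

open CategoryTheory CategoryTheory.Limits AlgebraicGeometry TopologicalSpace Opposite Matrix
open scoped TensorProduct

noncomputable section

namespace Groth.Agent.SBTw92

open Groth.Agent Groth.Agent.AModX Groth.Agent.SBAut Groth.Agent.BrauerXSB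

variable {k : Type u} [Field k] {A : Type u} [Ring A] [Algebra k A] {K : Type u} [Field K] [Algebra k K]
  {m N₀ : ℕ} (Φ : K ⊗[k] A ≃ₐ[K] Matrix (Fin (m + 1)) (Fin (m + 1)) K) (b : Module.Basis (Fin N₀) k A)

/-- The row of the matrix with the given coordinates. -/
def rowv {R : Type u} [CommRing R] (β : K →+* R) (r : Fin N₀ → R) (a l : Fin (m + 1)) : R :=
  ∑ d, r d * β (Φ (1 ⊗ₜ[k] b d) a l)

theorem rowv_map {R S : Type u} [CommRing R] [CommRing S] (β : K →+* R) (φ : R →+* S) (r : Fin N₀ → R)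
    (a l : Fin (m + 1)) : φ (rowv Φ b β r a l) = rowv Φ b (φ.comp β) (φ ∘ r) a l := by
  simp [rowv, map_sum, map_mul]

theorem rowv_cV {R : Type u} [CommRing R] [Algebra k R] [Algebra K R] [IsScalarTower k K R] (x : R ⊗[k] A)
    (a l : Fin (m + 1)) : rowv Φ b (algebraMap K R) (cV b R x) a l = splitHom Φ R x a l := by
  induction x using TensorProduct.induction_on with
  | zero => simp [rowv]
  | tmul r a' =>
    have h : Φ ((1 : K) ⊗ₜ[k] a') = ∑ d, algebraMap k K (b.repr a' d) • Φ ((1 : K) ⊗ₜ[k] b d) := by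
      conv_lhs => rw [← b.sum_repr a', TensorProduct.tmul_sum, map_sum]
      refine Finset.sum_congr rfl fun d _ => ?_
      rw [TensorProduct.tmul_smul, ← algebraMap_smul K (b.repr a' d) ((1 : K) ⊗ₜ[k] b d), map_smul]
    rw [splitHom_tmul, h]
    simp only [rowv, cV_tmul, Matrix.smul_apply, Matrix.map_apply, Matrix.sum_apply, smul_eq_mul, map_sum,
      map_mul, ← IsScalarTower.algebraMap_apply, Finset.mul_sum]
    exact Finset.sum_congr rfl fun d _ => by ring
  | add x y hx hy =>
    rw [map_add, map_add, show (splitHom Φ R x + splitHom Φ R y) a l = splitHom Φ R x a l + splitHom Φ R y a l from rfl,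
      ← hx, ← hy]
    simp [rowv, add_mul, Finset.sum_add_distrib]

variable (hA : Module.finrank k A = (m + 1) * (m + 1))

/-- The constants of a chart. -/
abbrev cstC (i : Fin (m + 1)) : K →+* Ch K i := ProjPt.cst i

include hA in
theorem rowv_mem_genPt {i : Fin (m + 1)} {r : Fin N₀ → Ch K i}
    (hr : letI := chAlgK (K := K) i; letI := chAlgk (k := k) (K := K) i;
      r ∈ coordIdeal b (genPt Φ hA (Nat.succ_pos m) (BrauerXSB.co i) (isUni_crd i)).1)
    (a l : Fin (m + 1)) : rowv Φ b (cstC i) r a l = rowv Φ b (cstC i) r a i * BrauerXSB.co i l := by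
  letI := chAlgK (K := K) i; letI := chAlgk (k := k) (K := K) i
  obtain ⟨x, hx, rfl⟩ := hr
  have h := (mem_genPt Φ hA (Nat.succ_pos m) (isUni_crd i) x).1 hx a l i
  rw [co_self, mul_one] at h
  have e : ∀ l, rowv Φ b (cstC i) (cV b _ x) a l = splitHom Φ (Ch K i) x a l := rowv_cV Φ b x a
  exact (e l).trans (h.trans ((congrArg (· * BrauerXSB.co i l) (e i).symm)))

include hA in
theorem exists_genPt_row (i : Fin (m + 1)) (a : Fin (m + 1)) :
    ∃ r : Fin N₀ → Ch K i,
      (letI := chAlgK (K := K) i; letI := chAlgk (k := k) (K := K) i;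
        r ∈ coordIdeal b (genPt Φ hA (Nat.succ_pos m) (BrauerXSB.co i) (isUni_crd i)).1) ∧
      ∀ a', rowv Φ b (cstC i) r a' i = if a' = a then 1 else 0 := by
  letI := chAlgK (K := K) i; letI := chAlgk (k := k) (K := K) i
  obtain ⟨x, hx⟩ := (splitHom_bijective Φ (Ch K i) hA (Nat.succ_pos m)).2
    (Matrix.of fun a' l => if a' = a then BrauerXSB.co i l else 0)
  refine ⟨cV b _ x, ?_, fun a' => ?_⟩
  · refine (cV_mem_coordIdeal b).2 ((mem_genPt Φ hA (Nat.succ_pos m) (isUni_crd i) x).2 ?_)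
    rw [hx]
    intro a' p q
    by_cases h : a' = a
    · simp [h, mul_comm]
    · simp [h]
  · refine (rowv_cV Φ b x a' i).trans ?_
    rw [hx]
    simp [co_self]

variable {X : Scheme.{u}} {f : X ⟶ Spec (CommRingCat.of k)}
  (s : BrSev.SBStr k A ((m + 1) * (m + 1) - (m + 1)) f) (e : BrSev.Splitting f K m)

local notation "𝐏" => CohB1.ProjSpace m K

/-- The map to the scheme from projective space. -/
abbrev prP : 𝐏 ⟶ X := e.iso.inv ≫ BrSev.proj f K

/-- The chart domains. -/
abbrev dom (i : Fin (m + 1)) : (CohB1.ProjSpace m K).Opens :=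
  Proj.basicOpen (CohB1.polyGrading m K) (MvPolynomial.X i)

/-- Functions of a chart on an open inside it. -/
def chRes {i : Fin (m + 1)} {W : (CohB1.ProjSpace m K).Opens} (h : W ≤ dom i) : Ch K i →+* Γ(𝐏, W) :=
  (resR h).comp (Proj.awayToSection (CohB1.polyGrading m K) (MvPolynomial.X i)).hom

omit [Algebra k K] in
theorem fromSpec_eq_chart {i : Fin (m + 1)} {W : (CohB1.ProjSpace m K).Opens} (hW : IsAffineOpen W)
    (h : W ≤ dom i) :
    hW.fromSpec = Spec.map (CommRingCat.ofHom (chRes h)) ≫ chart K i := by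
  let 𝒜 := CohB1.polyGrading m K
  have hD : IsAffineOpen (dom (K := K) i) :=
    Proj.isAffineOpen_basicOpen 𝒜 (MvPolynomial.X i) (ProjPt.X_mem i) one_pos
  have h0 : hD.fromSpec = Spec.map (Proj.awayToSection 𝒜 (MvPolynomial.X i)) ≫ chart K i := by
    haveI : IsAffine (dom (K := K) i) := hD
    refine (cancel_epi hD.isoSpec.hom).1 ?_
    rw [IsAffineOpen.isoSpec_hom_fromSpec]
    show _ = (dom (K := K) i).toSpecΓ ≫ Spec.map (Proj.awayToSection 𝒜 (MvPolynomial.X i)) ≫
      (Proj.basicOpenIsoSpec 𝒜 (MvPolynomial.X i) (ProjPt.X_mem i) one_pos).inv ≫ (dom (K := K) i).ι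
    rw [← Category.assoc, show (dom (K := K) i).toSpecΓ ≫ Spec.map (Proj.awayToSection 𝒜 (MvPolynomial.X i)) =
      (Proj.basicOpenIsoSpec 𝒜 (MvPolynomial.X i) (ProjPt.X_mem i) one_pos).hom from rfl, Iso.hom_inv_id_assoc]
  rw [← hD.map_fromSpec hW (homOfLE h).op, h0, ← Category.assoc, ← Spec.map_comp]
  rfl

omit [Algebra k K] in
theorem chRes_cst {i : Fin (m + 1)} {W : (CohB1.ProjSpace m K).Opens} (hW : IsAffineOpen W) (h : W ≤ dom i) :
    (chRes h).comp (cstC i) = str (CohB1.ProjSpace.toSpec m K) W := by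
  have h1 := fromSpec_comp (CohB1.ProjSpace.toSpec m K) hW
  rw [fromSpec_eq_chart hW h, Category.assoc, chart_toSpec, ← Spec.map_comp] at h1
  exact congrArg CommRingCat.Hom.hom (Spec.map_injective h1)

/-- Constants of `k` on projective space. -/
theorem str_prP {W : (CohB1.ProjSpace m K).Opens} :
    str (prP e ≫ f) W = (str (CohB1.ProjSpace.toSpec m K) W).comp (algebraMap k K) := by
  have h : prP e ≫ f = CohB1.ProjSpace.toSpec m K ≫ Spec.map (CommRingCat.ofHom (algebraMap k K)) := by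
    rw [Category.assoc, pullback.condition, ← Category.assoc, show e.iso.inv ≫ BrSev.bcTo f K =
      CohB1.ProjSpace.toSpec m K by rw [← e.comm, Iso.inv_hom_id_assoc]]
  refine RingHom.ext fun r => ?_
  show resR le_top (Coh.toGlobal (prP e ≫ f) r) = resR le_top (Coh.toGlobal _ (algebraMap k K r))
  congr 1
  rw [h, KLin.toGlobal_comp]
  show (CohB1.ProjSpace.toSpec m K).appTop _ = (CohB1.ProjSpace.toSpec m K).appTop _
  congr 1
  show ((Scheme.ΓSpecIso (CommRingCat.of k)).inv ≫ (Spec.map (CommRingCat.ofHom (algebraMap k K))).appTop).hom r = _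
  rw [← Scheme.ΓSpecIso_inv_naturality]
  rfl

variable {e} (he : ∀ i, chart K i ≫ e.iso.inv = chartPt Φ hA s i)

include he in
/-- The pulled back ideal on a chart. -/
theorem chart_span {i : Fin (m + 1)} {V : X.Opens} (hV : IsAffineOpen V)
    {W : (CohB1.ProjSpace m K).Opens} (hW : IsAffineOpen W) (hWD : W ≤ dom i) (hWV : W ≤ prP e ⁻¹ᵁ V) :
    Submodule.span Γ(𝐏, W) ((fun r : Fin N₀ → Γ(X, V) => (fun d => ((prP e).appLE V W hWV).hom (r d))) ''
        (affIdeal b s hV : Set (Fin N₀ → Γ(X, V)))) =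
      Submodule.span Γ(𝐏, W) ((fun r : Fin N₀ → Ch K i => chRes hWD ∘ r) ''
        ((letI := chAlgK (K := K) i; letI := chAlgk (k := k) (K := K) i;
          SetLike.coe (coordIdeal b (genPt Φ hA (Nat.succ_pos m) (BrauerXSB.co (K := K) i) (isUni_crd i)).1)) :
          Set (Fin N₀ → Ch K i))) := by
  letI := chAlgK (K := K) i; letI := chAlgk (k := k) (K := K) i
  letI := secAlg f V
  letI := secAlg (prP e ≫ f) W
  let α : Ch K i →ₐ[k] Γ(𝐏, W) :=
    { chRes hWD with
      commutes' := fun r => by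
        show chRes hWD (cstC i (algebraMap k K r)) = str (prP e ≫ f) W r
        rw [str_prP]
        exact RingHom.congr_fun (chRes_cst hW hWD) _ }
  let g₀ : BrSev.Pts f (Ch K i) :=
    (s.bij (Ch K i)).symm (genPt Φ hA (Nat.succ_pos m) (BrauerXSB.co i) (isUni_crd i))
  have hp : (BrSev.Pts.map f α g₀).1 = hW.fromSpec ≫ prP e := by
    show Spec.map _ ≫ g₀.1 = _
    rw [fromSpec_eq_chart hW hWD, Category.assoc, ← Category.assoc (chart K i), he, chartPt]
    exact congrArg (Spec.map (CommRingCat.ofHom (chRes hWD)) ≫ ·) (toXK_proj K s _).symm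
  have h1 := aIdeal_pullback s b rfl hV hW hWV (BrSev.Pts.map f α g₀) hp
  rw [coordIdeal_map] at h1
  refine h1.trans ?_
  rw [coordIdeal, s.natural, Equiv.apply_symm_apply, ← coordIdeal, coordIdeal_map]
  rfl

include he in
theorem chart_rel {i : Fin (m + 1)} {V : X.Opens} (hV : IsAffineOpen V)
    {W : (CohB1.ProjSpace m K).Opens} (hW : IsAffineOpen W) (hWD : W ≤ dom i) (hWV : W ≤ prP e ⁻¹ᵁ V)
    {r : Fin N₀ → Γ(X, V)} (hr : r ∈ affIdeal b s hV) (a l : Fin (m + 1)) :
    rowv Φ b (str (CohB1.ProjSpace.toSpec m K) W) (fun d => ((prP e).appLE V W hWV).hom (r d)) a l =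
      rowv Φ b (str (CohB1.ProjSpace.toSpec m K) W) (fun d => ((prP e).appLE V W hWV).hom (r d)) a i *
        chRes hWD (BrauerXSB.co i l) := by
  have hmem : (fun d => ((prP e).appLE V W hWV).hom (r d)) ∈ Submodule.span Γ(𝐏, W) _ :=
    (chart_span Φ b hA s he hV hW hWD hWV).le (Submodule.subset_span ⟨r, hr, rfl⟩)
  generalize (fun d => ((prP e).appLE V W hWV).hom (r d)) = v at hmem ⊢
  induction hmem using Submodule.span_induction with
  | mem x hx =>
    obtain ⟨y, hy, rfl⟩ := hx
    rw [← chRes_cst hW hWD, ← rowv_map, ← rowv_map, rowv_mem_genPt Φ b hA hy a l, map_mul]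
  | zero => simp [rowv]
  | add x y _ _ hx hy =>
    simp only [rowv, Pi.add_apply, add_mul, Finset.sum_add_distrib]
    simp only [rowv] at hx hy
    rw [hx, hy]
  | smul t x _ hx =>
    simp only [rowv, Pi.smul_apply, smul_eq_mul, mul_assoc, ← Finset.mul_sum]
    simp only [rowv] at hx
    rw [hx]

include he in
theorem chart_row {i : Fin (m + 1)} {V : X.Opens} (hV : IsAffineOpen V)
    {W : (CohB1.ProjSpace m K).Opens} (hW : IsAffineOpen W) (hWD : W ≤ dom i) (hWV : W ≤ prP e ⁻¹ᵁ V)
    (a : Fin (m + 1)) :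
    ∃ v ∈ Submodule.span Γ(𝐏, W) ((fun r : Fin N₀ → Γ(X, V) => (fun d => ((prP e).appLE V W hWV).hom (r d))) ''
        (affIdeal b s hV : Set (Fin N₀ → Γ(X, V)))),
      ∀ a', rowv Φ b (str (CohB1.ProjSpace.toSpec m K) W) v a' i = if a' = a then 1 else 0 := by
  obtain ⟨r, hr, hrow⟩ := exists_genPt_row Φ b hA i a
  refine ⟨chRes hWD ∘ r, ?_, fun a' => ?_⟩
  · rw [chart_span Φ b hA s he hV hW hWD hWV]
    exact Submodule.subset_span ⟨r, hr, rfl⟩
  · rw [← chRes_cst hW hWD, ← rowv_map, hrow a', apply_ite (chRes hWD), map_one, map_zero]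

end Groth.Agent.SBTw92
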