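import Groth.Agent.SBAut.Ideals
import Mathlib.RingTheory.TensorProduct.Free
import Mathlib.RingTheory.Spectrum.Prime.FreeLocus
import Mathlib.LinearAlgebra.Matrix.NonsingularInverse
import Mathlib.LinearAlgebra.Matrix.Rank
import Mathlib.LinearAlgebra.FiniteDimensional.Lemmas
import Mathlib.RingTheory.Nilpotent.Basic
import Mathlib.LinearAlgebra.Matrix.ToLin

/-!
# Points of the Grassmannian of an algebra in coordinates
-/

set_option autoImplicit false

universe u

open Matrix
open scoped TensorProduct

noncomputable section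

namespace Groth.Agent.SBTw92

open Groth.Agent.SBAut

variable {k : Type u} [Field k] {A : Type u} [Ring A] [Algebra k A] {ι : Type} [Fintype ι] [DecidableEq ι]
  (b : Module.Basis ι k A) {c : ℕ}
  {R S : Type u} [CommRing R] [Algebra k R] [CommRing S] [Algebra k S]

/-- Coordinates of the base-changed algebra. -/
def cV (R : Type u) [CommRing R] [Algebra k R] : R ⊗[k] A ≃ₗ[R] (ι → R) :=
  (Algebra.TensorProduct.basis R b).equivFun

omit [DecidableEq ι] in
theorem cV_tmul (r : R) (a : A) (d : ι) : cV b R (r ⊗ₜ[k] a) d = r * algebraMap k R (b.repr a d) := by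
  simp [cV]

omit [DecidableEq ι] in
theorem cV_bc (φ : R →ₐ[k] S) (x : R ⊗[k] A) : cV b S (bc φ x) = φ ∘ cV b R x := by
  funext d
  induction x using TensorProduct.induction_on with
  | zero => simp
  | tmul r a => simp [cV_tmul]
  | add x y hx hy => simp [hx, hy]

/-- A point in coordinates. -/
def coordIdeal (N : Module.Grassmannian R (R ⊗[k] A) c) : Submodule R (ι → R) :=
  N.toSubmodule.map (cV b R).toLinearMap

omit [DecidableEq ι] in
theorem cV_mem_coordIdeal {N : Module.Grassmannian R (R ⊗[k] A) c} {x : R ⊗[k] A} :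
    cV b R x ∈ coordIdeal b N ↔ x ∈ N.toSubmodule :=
  ⟨fun ⟨_, hy, h⟩ => (cV b R).injective h ▸ hy, fun h => ⟨x, h, rfl⟩⟩

omit [DecidableEq ι] in
theorem coordIdeal_map (φ : R →ₐ[k] S) (N : Module.Grassmannian R (R ⊗[k] A) c) :
    coordIdeal b (Module.Grassmannian.map φ N) =
      Submodule.span S ((fun r : ι → R => φ ∘ r) '' (coordIdeal b N : Set (ι → R))) := by
  rw [coordIdeal, map_toSubmodule_span, Submodule.map_span, coordIdeal, Submodule.map_coe,
    Set.image_image, Set.image_image]
  exact congrArg (Submodule.span S) (Set.image_congr fun x _ => cV_bc b φ x)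

/-- A point is the kernel of an idempotent matrix. -/
theorem exists_proj (N : Module.Grassmannian R (R ⊗[k] A) c) :
    ∃ H : Matrix ι ι R, H * H = H ∧ ∀ r, r ∈ coordIdeal b N ↔ H *ᵥ r = 0 := by
  haveI := N.projective_quotient
  obtain ⟨s, hs⟩ := Module.projective_lifting_property N.toSubmodule.mkQ LinearMap.id
    (Submodule.mkQ_surjective _)
  let h : (ι → R) →ₗ[R] (ι → R) := (cV b R).toLinearMap ∘ₗ (s ∘ₗ N.toSubmodule.mkQ) ∘ₗ (cV b R).symm.toLinearMap
  have hq : ∀ y, N.toSubmodule.mkQ (s y) = y := LinearMap.congr_fun hs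
  refine ⟨LinearMap.toMatrix' h, ?_, fun r => ?_⟩
  · rw [← LinearMap.toMatrix'_comp]
    congr 1
    ext r
    simp [h, hq]
  · rw [LinearMap.toMatrix'_mulVec]
    constructor
    · rintro ⟨x, hx, rfl⟩
      simp [h, (Submodule.Quotient.mk_eq_zero N.toSubmodule).2 hx]
    · intro hr
      refine ⟨(cV b R).symm r, ?_, by simp⟩
      have h1 : s (N.toSubmodule.mkQ ((cV b R).symm r)) = 0 := (cV b R).injective (by simpa [h] using hr)
      have h2 := hq (N.toSubmodule.mkQ ((cV b R).symm r))
      rw [h1, map_zero] at h2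
      exact (Submodule.Quotient.mk_eq_zero N.toSubmodule).1 h2.symm

theorem mem_coordIdeal_map {N : Module.Grassmannian R (R ⊗[k] A) c} {H : Matrix ι ι R}
    (hH : H * H = H) (hN : ∀ r, r ∈ coordIdeal b N ↔ H *ᵥ r = 0) (φ : R →ₐ[k] S) (v : ι → S) :
    v ∈ coordIdeal b (Module.Grassmannian.map φ N) ↔ H.map φ *ᵥ v = 0 := by
  rw [coordIdeal_map]
  constructor
  · intro hv
    induction hv using Submodule.span_induction with
    | mem x hx =>
      obtain ⟨r, hr, rfl⟩ := hx
      funext i
      have := congrArg φ (congrFun ((hN r).1 hr) i)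
      simpa [Matrix.mulVec, dotProduct] using this
    | zero => simp
    | add x y _ _ hx hy => rw [Matrix.mulVec_add, hx, hy, add_zero]
    | smul t x _ hx => rw [Matrix.mulVec_smul, hx, smul_zero]
  · intro hv
    have h1 : v = ((1 : Matrix ι ι S) - H.map φ) *ᵥ v := by
      rw [Matrix.sub_mulVec, hv, Matrix.one_mulVec, sub_zero]
    have h2 : v = ∑ j, v j • (φ ∘ fun i => ((1 : Matrix ι ι R) - H) i j) := by
      conv_lhs => rw [h1]
      funext i
      simp [Matrix.mulVec, dotProduct, Matrix.one_apply, mul_comm, apply_ite φ]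
    rw [h2]
    refine Submodule.sum_mem _ fun j _ => Submodule.smul_mem _ _ (Submodule.subset_span ⟨_, ?_, rfl⟩)
    have h3 : (fun i => ((1 : Matrix ι ι R) - H) i j) = ((1 : Matrix ι ι R) - H) *ᵥ Pi.single j 1 := by
      funext i
      simp [Matrix.mulVec_single]
    rw [SetLike.mem_coe, hN, h3, Matrix.mulVec_mulVec, mul_sub, mul_one, hH, sub_self, Matrix.zero_mulVec]

omit [DecidableEq ι] in
/-- The dimension of a point over a field. -/
theorem finrank_coordIdeal {κ : Type u} [Field κ] [Algebra k κ] (N : Module.Grassmannian κ (κ ⊗[k] A) c) :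
    Module.finrank κ (coordIdeal b N) = Fintype.card ι - c := by
  haveI := N.finite_quotient
  have hc : Module.finrank κ ((κ ⊗[k] A) ⧸ N.toSubmodule) = c := by
    have h := N.rankAtStalk_eq ⟨⊥, Ideal.isPrime_bot⟩
    rw [Module.rankAtStalk_eq_finrank_of_free] at h
    exact h
  haveI : Module.Finite κ (κ ⊗[k] A) := Module.Finite.of_basis (Algebra.TensorProduct.basis κ b)
  have h1 := Submodule.finrank_quotient_add_finrank N.toSubmodule
  rw [hc, Module.finrank_eq_card_basis (Algebra.TensorProduct.basis κ b)] at h1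
  rw [coordIdeal, LinearEquiv.finrank_map_eq]
  omega

theorem exists_indep {K V α : Type*} [Field K] [AddCommGroup V] [Module K V] [Finite α] {n : ℕ} (v : α → V)
    (hn : Module.finrank K (Submodule.span K (Set.range v)) = n) :
    ∃ f : Fin n → α, LinearIndependent K (v ∘ f) := by
  obtain ⟨t, hsub, hspan, hli⟩ := exists_linearIndependent K (Set.range v)
  haveI : Fintype t := ((Set.finite_range v).subset hsub).fintype
  have hcard : Fintype.card t = n := by
    rw [← hn, ← hspan, finrank_span_set_eq_card hli, Set.toFinset_card]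
  let e : Fin n ≃ t := (Fintype.equivFinOfCardEq hcard).symm
  choose g hg using fun i : Fin n => hsub (e i).2
  exact ⟨g, by rw [show v ∘ g = Subtype.val ∘ e from funext hg]; exact hli.comp e e.injective⟩

/-- Local bases of a point: after inverting an element outside a given prime, the columns of a matrix form a
basis, with coordinates read on selected rows. -/
theorem exists_local_basis (N : Module.Grassmannian R (R ⊗[k] A) c) {n : ℕ} (hn : Fintype.card ι - c = n)
    (q : Ideal R) [q.IsPrime] :
    ∃ (h : R) (E : Fin n → ι → R), h ∉ q ∧ (∀ j, E j ∈ coordIdeal b N) ∧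
      ∀ (S : Type u) [CommRing S] [Algebra k S] (φ : R →ₐ[k] S), IsUnit (φ h) →
        ∀ v ∈ coordIdeal b (Module.Grassmannian.map φ N),
          ∃! t : Fin n → S, v = ∑ j, t j • (φ ∘ E j) := by
  classical
  obtain ⟨H, hH, hN⟩ := exists_proj b N
  let P := (1 : Matrix ι ι R) - H
  have hP : P * P = P := by simp [P, mul_sub, sub_mul, hH]
  have hrange : ∀ {T : Type u} [CommRing T] [Algebra k T] (φ : R →ₐ[k] T) (v : ι → T),
      v ∈ coordIdeal b (Module.Grassmannian.map φ N) ↔ P.map φ *ᵥ v = v := fun φ v => by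
    rw [mem_coordIdeal_map b hH hN φ v]
    have : P.map φ = 1 - H.map φ := by
      simp [P, Matrix.map_sub φ (map_sub φ), Matrix.map_one φ (map_zero φ) (map_one φ)]
    rw [this, Matrix.sub_mulVec, Matrix.one_mulVec, sub_eq_self]
  have hcol : ∀ {T : Type u} [Field T] [Algebra k T] (φ : R →ₐ[k] T),
      coordIdeal b (Module.Grassmannian.map φ N) = Submodule.span T (Set.range (P.map φ).col) := fun {T} _ _ φ => by
    refine le_antisymm (fun v hv => ?_) (Submodule.span_le.2 ?_)
    · rw [← (hrange φ v).1 hv]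
      exact (Matrix.range_mulVecLin (P.map φ)).le (LinearMap.mem_range_self (Matrix.mulVecLin (P.map φ)) v)
    · rintro _ ⟨j, rfl⟩
      refine (hrange φ _).2 ?_
      have hc : (P.map φ).col j = P.map φ *ᵥ Pi.single j 1 := by
        funext i
        simp [Matrix.mulVec_single]
      rw [hc, Matrix.mulVec_mulVec, ← Matrix.map_mul, hP]
  let φ₀ : R →ₐ[k] q.ResidueField := IsScalarTower.toAlgHom k R q.ResidueField
  obtain ⟨f, hf⟩ := exists_indep (n := n) (P.map φ₀).col (by rw [← hcol, finrank_coordIdeal, hn])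
  let M : Matrix ι (Fin n) q.ResidueField := (P.map φ₀).submatrix id f
  have hM : M.rank = n := by
    rw [← Matrix.rank_transpose]
    exact (LinearIndependent.rank_matrix (M := Mᵀ) hf).trans (Fintype.card_fin n)
  obtain ⟨g, hg⟩ := exists_indep (n := n) M.row (by rw [← Matrix.rank_eq_finrank_span_row]; exact hM)
  have hunit : IsUnit (M.submatrix g id) := Matrix.linearIndependent_rows_iff_isUnit.1 hg
  refine ⟨(P.submatrix g f).det, fun j i => P i (f j), fun hmem => ?_, fun j => ?_, ?_⟩
  · rw [Matrix.isUnit_iff_isUnit_det] at hunit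
    refine hunit.ne_zero ?_
    have h0 : φ₀ (P.submatrix g f).det = 0 := by
      show algebraMap R q.ResidueField _ = 0
      exact Ideal.algebraMap_residueField_eq_zero.2 hmem
    rw [AlgHom.map_det] at h0
    exact h0
  · rw [hN]
    have : (fun i => P i (f j)) = P *ᵥ Pi.single (f j) 1 := by
      funext i
      simp [Matrix.mulVec_single]
    show H *ᵥ (fun i => P i (f j)) = 0
    rw [this, Matrix.mulVec_mulVec, mul_sub, mul_one, hH, sub_self, Matrix.zero_mulVec]
  intro S _ _ φ hu v hv
  let Pφ := P.map φ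
  have hPφ : Pφ * Pφ = Pφ := by simp [Pφ, ← Matrix.map_mul, hP]
  let Eφ : Matrix ι (Fin n) S := Pφ.submatrix id f
  let Rg : Matrix (Fin n) ι S := Pφ.submatrix g id
  let U : Matrix (Fin n) (Fin n) S := Pφ.submatrix g f
  have hU : IsUnit U.det := by
    have : U.det = φ (P.submatrix g f).det := by rw [AlgHom.map_det]; rfl
    rw [this]; exact hu
  have h1 : Pφ * Eφ = Eφ := by
    show Pφ * Pφ.submatrix id f = Pφ.submatrix id f
    conv_rhs => rw [← hPφ]
    rfl
  have h2 : Rg * Pφ = Rg := by
    show Pφ.submatrix g id * Pφ = Pφ.submatrix g id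
    conv_rhs => rw [← hPφ]
    rfl
  have h3 : Rg * Eφ = U := by
    show Pφ.submatrix g id * Pφ.submatrix id f = Pφ.submatrix g f
    conv_rhs => rw [← hPφ]
    rfl
  let T : Matrix ι ι S := Pφ - Eφ * U⁻¹ * Rg
  have hTT : T * T = T := by
    simp only [T, sub_mul, mul_sub, hPφ]
    rw [show Pφ * (Eφ * U⁻¹ * Rg) = Eφ * U⁻¹ * Rg by rw [← Matrix.mul_assoc, ← Matrix.mul_assoc, h1]]
    rw [show Eφ * U⁻¹ * Rg * Pφ = Eφ * U⁻¹ * Rg by rw [Matrix.mul_assoc, h2]]
    rw [show Eφ * U⁻¹ * Rg * (Eφ * U⁻¹ * Rg) = Eφ * (U⁻¹ * (Rg * Eφ)) * (U⁻¹ * Rg) by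
      simp only [Matrix.mul_assoc], h3, Matrix.nonsing_inv_mul U hU, Matrix.mul_one, Matrix.mul_assoc]
    abel
  have hT0 : T = 0 := by
    have hz : ∀ (p : Ideal S) [p.IsPrime], T.map (algebraMap S p.ResidueField) = 0 := by
      intro p _
      let ψ : S →ₐ[k] p.ResidueField := IsScalarTower.toAlgHom k S p.ResidueField
      let χ := ψ.comp φ
      have hfin : Module.finrank p.ResidueField (coordIdeal b (Module.Grassmannian.map χ N)) = n := by
        rw [finrank_coordIdeal, hn]
      let Eχ : Fin n → ι → p.ResidueField := fun j i => χ (P i (f j))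
      have hli : LinearIndependent p.ResidueField Eχ := by
        rw [Fintype.linearIndependent_iff]
        intro t ht
        have hUχ : IsUnit ((P.submatrix g f).map χ).det := by
          rw [← AlgHom.mapMatrix_apply, ← AlgHom.map_det]
          exact hu.map ψ
        have : (P.submatrix g f).map χ *ᵥ t = 0 := by
          funext i
          simpa [Matrix.mulVec, dotProduct, Eχ, Finset.sum_apply, mul_comm] using congrFun ht (g i)
        exact congrFun (Matrix.eq_zero_of_mulVec_eq_zero hUχ.ne_zero this)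
      have hle : Submodule.span p.ResidueField (Set.range Eχ) =
          coordIdeal b (Module.Grassmannian.map χ N) := by
        haveI : Module.Finite p.ResidueField (coordIdeal b (Module.Grassmannian.map χ N)) := inferInstance
        refine Submodule.eq_of_le_of_finrank_eq (Submodule.span_le.2 ?_) ?_
        · rintro _ ⟨j, rfl⟩
          rw [hcol χ]
          exact Submodule.subset_span ⟨f j, rfl⟩
        · rw [finrank_span_eq_card hli, Fintype.card_fin, hfin]
      refine Matrix.ext fun i j => ?_
      have hj : (P.map χ).col j ∈ Submodule.span p.ResidueField (Set.range Eχ) := by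
        rw [hle, hcol χ]
        exact Submodule.subset_span ⟨j, rfl⟩
      obtain ⟨t, ht⟩ := (Submodule.mem_span_range_iff_exists_fun _).1 hj
      have hTc : T.map (algebraMap S p.ResidueField) =
          P.map χ - (P.map χ).submatrix id f * ((P.map χ).submatrix g f)⁻¹ * (P.map χ).submatrix g id := by
        have hUi : (U⁻¹).map ψ = (U.map ψ)⁻¹ := by
          refine (Matrix.inv_eq_left_inv ?_).symm
          rw [← Matrix.map_mul, Matrix.nonsing_inv_mul U hU, Matrix.map_one ψ (map_zero ψ) (map_one ψ)]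
        show (Pφ - Eφ * U⁻¹ * Rg).map ψ = _
        rw [Matrix.map_sub ψ (map_sub ψ), Matrix.map_mul, Matrix.map_mul, hUi]
        rfl
      have hcolj : ∀ i, P.map χ i j = ∑ l, t l * P.map χ i (f l) := fun i => by
        simpa [Eχ] using (congrFun ht i).symm
      have hUχ : IsUnit ((P.map χ).submatrix g f).det := by
        rw [show (P.map χ).submatrix g f = χ.mapMatrix (P.submatrix g f) from rfl, ← AlgHom.map_det]
        exact hu.map ψ
      have hr : ∀ l, (((P.map χ).submatrix g f)⁻¹ * (P.map χ).submatrix g id) l j = t l := by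
        have : (fun l => (P.map χ).submatrix g id l j) = (P.map χ).submatrix g f *ᵥ t := by
          funext l
          simpa [Matrix.mulVec, dotProduct, mul_comm] using hcolj (g l)
        intro l
        show ((P.map χ).submatrix g f)⁻¹ l ⬝ᵥ (fun a => (P.map χ).submatrix g id a j) = t l
        rw [this]
        show (((P.map χ).submatrix g f)⁻¹ *ᵥ ((P.map χ).submatrix g f *ᵥ t)) l = t l
        rw [Matrix.mulVec_mulVec, Matrix.nonsing_inv_mul _ hUχ, Matrix.one_mulVec]
      rw [hTc, Matrix.sub_apply, Matrix.mul_assoc, Matrix.mul_apply, Matrix.zero_apply, sub_eq_zero]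
      simp only [hr]
      rw [hcolj i]
      exact Finset.sum_congr rfl fun l _ => mul_comm _ _
    have hdet : IsUnit (1 - T).det := by
      by_contra hnu
      obtain ⟨p, hp, hmem⟩ := exists_max_ideal_of_mem_nonunits hnu
      haveI := hp.isPrime
      have h0 : algebraMap S p.ResidueField (1 - T).det = 0 := Ideal.algebraMap_residueField_eq_zero.2 hmem
      rw [RingHom.map_det, RingHom.mapMatrix_apply, Matrix.map_sub _ (map_sub _),
        Matrix.map_one _ (map_zero _) (map_one _), @hz p hp.isPrime, sub_zero, Matrix.det_one] at h0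
      exact one_ne_zero h0
    have h0 : (1 - T) * T = 0 := by rw [sub_mul, one_mul, hTT, sub_self]
    calc T = (1 - T)⁻¹ * ((1 - T) * T) := by rw [← mul_assoc, Matrix.nonsing_inv_mul _ hdet, one_mul]
      _ = 0 := by rw [h0, mul_zero]
  have hsum : ∀ t : Fin n → S, ∑ j, t j • (φ ∘ fun i => P i (f j)) = Eφ *ᵥ t := fun t => by
    funext i
    simp [Matrix.mulVec, dotProduct, Eφ, Pφ, mul_comm]
  have hPE : Pφ = Eφ * U⁻¹ * Rg := sub_eq_zero.1 hT0
  refine ⟨U⁻¹ *ᵥ (Rg *ᵥ v), ?_, fun t ht => ?_⟩
  · show v = _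
    rw [hsum, Matrix.mulVec_mulVec, Matrix.mulVec_mulVec, ← hPE]
    exact ((hrange φ v).1 hv).symm
  · rw [ht, hsum]
    simp only [Matrix.mulVec_mulVec, h3, Matrix.nonsing_inv_mul U hU, Matrix.one_mulVec]

end Groth.Agent.SBTw92
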