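import Groth.Agent.SBTw92.Numbers
import Groth.Agent.BCHom92.FormApps
import Groth.Agent.KS92.Retract

/-!
# Decomposition of absolutely split modules on Severi–Brauer schemes
-/

set_option autoImplicit false
set_option backward.isDefEq.respectTransparency false
set_option backward.isDefEq.respectTransparency.types false

universe u

open CategoryTheory CategoryTheory.Limits AlgebraicGeometry TopologicalSpace Opposite
open scoped TensorProduct Groth.Agent.H23.PicMul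

noncomputable section

set_option synthInstance.maxHeartbeats 200000

namespace Groth.Agent.SBTw92

open Groth.Agent Groth.Agent.CSALib

/-- An indecomposable retract of an indecomposable object is isomorphic to it. -/
theorem nonempty_iso_of_retract {C : Type*} [Category C] [Preadditive C] [HasBinaryBiproducts C]
    [IsIdempotentComplete C] {G E : C} (hG : ¬ IsZero G) (hE : KS92.Indec E) (i : G ⟶ E) (r : E ⟶ G)
    (h : i ≫ r = 𝟙 G) : Nonempty (G ≅ E) := by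
  rcases KS92.idem_trivial hE (r ≫ i : End E)
      (show (r ≫ i) ≫ (r ≫ i) = r ≫ i by simp [reassoc_of% h]) with h0 | h1
  · refine (hG ((IsZero.iff_id_eq_zero G).2 ?_)).elim
    have := congrArg (fun z => i ≫ z ≫ r) (show r ≫ i = 0 from h0)
    simpa [reassoc_of% h, h] using this
  · exact ⟨⟨i, r, h, h1⟩⟩

variable {k : Type u} [Field k] {K : Type u} [Field K] [Algebra k K] [IsAlgClosure k K]
  {X : Scheme.{u}} [X.Over (Spec (CommRingCat.of k))] [IsProper (X ↘ Spec (CommRingCat.of k))] {n : ℕ}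
  {e : BrSev.Splitting (X ↘ Spec (CommRingCat.of k)) K n}

local notation "fX" => (X ↘ Spec (CommRingCat.of k))

/-- A module of type `O(j)` has an indecomposable summand of the same type. -/
theorem exists_indec_of_type {M : X.Modules} {j : ℤ} {r : ℕ} (hM : FlatMod.IsFinLocFree M)
    (ht : BrSev.IsTwPow e j r M) (hr : 0 < r) : ∃ (G : X.Modules) (s : ℕ),
      FlatMod.IsFinLocFree G ∧ KS92.Indec G ∧ 0 < s ∧ BrSev.IsTwPow e j s G := by
  haveI := isIntegral_bc e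
  haveI := CurveCohLib.isNoetherian_of_proper (k := k) (X := X)
  haveI : Algebra.IsAlgebraic k K := IsAlgClosure.isAlgebraic
  have hM0 : ¬ IsZero M := fun hz => by
    obtain ⟨_, _, _⟩ := centralSimple_end hM ht hr
    exact one_ne_zero (α := End M) ((IsZero.iff_id_eq_zero M).1 hz)
  have hh : IsPullback (BrSev.proj fX K) (BrSev.bcTo fX K) fX (Spec.map (CommRingCat.ofHom (algebraMap k K))) :=
    IsPullback.of_hasPullback _ _
  obtain ⟨ψ⟩ := ht
  have hL := CurveDeg.isCoh_of_isInvertible (isInvertible_twist e j)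
  have hC := CurveDeg.isCoh_of_isFinLocFree hM
  obtain ⟨G, t, ι, ρ, hιρ, hG, -⟩ := (BCHom92.exists_pow_indec (π := BrSev.proj fX K) hh hC hM0 hL
    (indec_twist e _) ψ).1
  have hGf : FlatMod.IsFinLocFree G := BCHom92.isFinLocFree_of_retract ι ρ hιρ hM
  obtain ⟨s, hs⟩ := BCHom92.exists_iso_pow_of_retract (π := BrSev.proj fX K) hh ι ρ hιρ hC hL (indec_twist e _) ψ
  exact ⟨G, s, hGf, hG, pos_of_not_isZero hGf hs hG.1, hs⟩

omit [IsAlgClosure k K] [IsProper (X ↘ Spec (CommRingCat.of k))] in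
theorem twist_tensor (e : BrSev.Splitting fX K n) (a b : ℤ) :
    Nonempty (CohB1.tensorMod (e.twist a) (e.twist b) ≅ e.twist (a + b)) := by
  obtain ⟨q⟩ := H23.PicMul.pull e.iso.hom (Twist.twistProjSpace n K a) (Twist.twistProjSpace n K b)
  obtain ⟨w⟩ := nonempty_twist_tensor n K a b
  exact ⟨q.symm ≪≫ (Scheme.Modules.pullback e.iso.hom).mapIso w⟩

omit [IsAlgClosure k K] [IsProper (X ↘ Spec (CommRingCat.of k))] in
theorem exists_iso_twist (e : BrSev.Splitting fX K n) {L : (BrSev.bc fX K).Modules} (hL : PicF.IsInvertible L) :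
    ∃ d : ℤ, Nonempty (L ≅ e.twist d) := by
  obtain ⟨d, ⟨i⟩⟩ := Pn90.exists_iso_O (k := K) (n := n) (PicClLib.isInvertible_pullback e.iso.inv hL)
  exact ⟨d, ⟨((Scheme.Modules.pullbackId _).app L).symm ≪≫
    (Scheme.Modules.pullbackCongr e.iso.hom_inv_id.symm).app L ≪≫
    ((Scheme.Modules.pullbackComp e.iso.hom e.iso.inv).app L).symm ≪≫
    (Scheme.Modules.pullback e.iso.hom).mapIso i⟩⟩

omit [IsAlgClosure k K] [IsProper (X ↘ Spec (CommRingCat.of k))] in
/-- The inverse of an invertible module of type `O(j)` has type `O(-j)`. -/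
theorem isTwPow_inverse {L D : X.Modules} {j : ℤ} (hL : BrSev.IsTwPow e j 1 L)
    (h : Nonempty (CohB1.tensorMod L D ≅ Coh.structureModule X)) : BrSev.IsTwPow e (-j) 1 D := by
  obtain ⟨φ⟩ := hL
  obtain ⟨z⟩ := isTwPow_structure (e := e)
  let π := BrSev.proj fX K
  have z' : PicF.cl (BrSev.bcMod fX K (Coh.structureModule X)) = PicF.cl (e.twist 0) :=
    H23.PicMul.cl_eq_iff.2 ⟨z ≪≫ coproductUniqueIso _⟩
  have z1 : PicF.cl (BrSev.bcMod fX K (Coh.structureModule X)) = 1 := by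
    rw [H23.PicMul.one_def, H23.PicMul.cl_eq_iff]
    exact PicClLib.nonempty_pullback_structureModule π
  have h1 : PicF.cl (e.twist j) * PicF.cl (BrSev.bcMod fX K D) = 1 := by
    rw [← z1, ← H23.PicMul.cl_eq_iff.2 ⟨φ ≪≫ coproductUniqueIso _⟩, ← H23.PicMul.cl_tensor,
      H23.PicMul.cl_eq_iff]
    obtain ⟨p⟩ := H23.PicMul.pull π L D
    exact ⟨p.symm ≪≫ (Scheme.Modules.pullback π).mapIso h.some⟩
  have h2 : PicF.cl (e.twist (-j)) * PicF.cl (e.twist j) = 1 := by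
    rw [← z1, z', ← H23.PicMul.cl_tensor, H23.PicMul.cl_eq_iff]
    have := twist_tensor e (-j) j
    rwa [neg_add_cancel] at this
  obtain ⟨i⟩ := H23.PicMul.cl_eq_iff.1 (left_inv_eq_right_inv h2 h1)
  exact ⟨i.symm ≪≫ (coproductUniqueIso fun _ : Fin 1 => e.twist (-j)).symm⟩

variable {A : Type u} [Ring A] [Algebra k A] [Algebra.IsCentral k A] [IsSimpleRing A] {m : ℕ}

/-- When `A^i` is split there are invertible modules of types `O(-i)` and `O(i)`. -/
theorem exists_invertible (hA : Module.finrank k A = (m + 1) * (m + 1))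
    (hs : BrSev.IsSBOf k A ((m + 1) * (m + 1) - (m + 1)) fX) (e : BrSev.Splitting fX K m) {i : ℕ}
    (hi : Similar k (⨂[k] _i : Fin i, A) k) :
    ∀ a : ℤ, a.natAbs = i → ∃ L : X.Modules, PicF.IsInvertible L ∧ BrSev.IsTwPow e a 1 L := by
  haveI : FiniteDimensional k A := Module.finite_of_finrank_pos (by rw [hA]; positivity)
  obtain ⟨G, r, hG, -, -, hGt, hidx⟩ := exists_indec_index hA hs e i
  have hr : r = 1 := index_pow_unique hidx (isIndex_one_of_split hi)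
  subst hr
  obtain ⟨φ⟩ := hGt
  have hGinv : PicF.IsInvertible G :=
    isInvertible_of_pullback hG (isInvertible_twist e _) (φ ≪≫ coproductUniqueIso _)
  intro a ha
  rcases Int.natAbs_eq a with h | h <;> rw [h, ha]
  · obtain ⟨D, hD, hd⟩ := H23.PicInv.exists_inverse hGinv
    have := isTwPow_inverse (e := e) ⟨φ⟩ hd
    rw [neg_neg] at this
    exact ⟨D, hD, this⟩
  · exact ⟨G, hGinv, ⟨φ⟩⟩

/-- For every `j` there is an indecomposable module of type `O(j)`. -/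
theorem exists_indec (hA : Module.finrank k A = (m + 1) * (m + 1))
    (hs : BrSev.IsSBOf k A ((m + 1) * (m + 1) - (m + 1)) fX) (e : BrSev.Splitting fX K m) (j : ℤ) :
    ∃ (G : X.Modules) (r : ℕ), FlatMod.IsFinLocFree G ∧ KS92.Indec G ∧ 0 < r ∧ BrSev.IsTwPow e j r G := by
  haveI : FiniteDimensional k A := Module.finite_of_finrank_pos (by rw [hA]; positivity)
  obtain ⟨d, hd⟩ := exists_isIndex k A
  have hd1 : (1 : ℤ) ≤ d := by exact_mod_cast hd.1
  -- `j = q - i` with `i ≥ 0` and `q` a multiple of the index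
  let t : ℕ := j.natAbs
  obtain ⟨L, hL, hLt⟩ := exists_invertible hA hs e (pow_mul_split (similar_pow_index hd) t)
    ((d : ℤ) * (t : ℤ)) (by simp [Int.natAbs_mul])
  have hi : 0 ≤ (d : ℤ) * (t : ℤ) - j := by
    have : (t : ℤ) ≤ (d : ℤ) * (t : ℤ) := le_mul_of_one_le_left (Int.natCast_nonneg _) hd1
    have := Int.le_natAbs (a := j)
    omega
  obtain ⟨i, hi⟩ := Int.eq_ofNat_of_zero_le hi
  obtain ⟨G, r, hG, -, hr, hGt, -⟩ := exists_indec_index hA hs e i
  have ht := isTwPow_tensor e _ _ _ _ G L hGt hLt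
  rw [show -(i : ℤ) + (d : ℤ) * (t : ℤ) = j by omega, mul_one] at ht
  exact exists_indec_of_type (KFlatLib.isFinLocFree_tensor hG (H23.PullPush.isFinLocFree_of_isInvertible hL)) ht hr

/-- An indecomposable module meeting the type `O(j)` has type `O(j)`. -/
theorem isTwPow_of_hom {E G : X.Modules} {j : ℤ} {r : ℕ} (hE : FlatMod.IsFinLocFree E) (hEi : KS92.Indec E)
    (hG : FlatMod.IsFinLocFree G) (hGi : KS92.Indec G) (hGt : BrSev.IsTwPow e j r G)
    (a : e.twist j ⟶ BrSev.bcMod fX K E) (b : BrSev.bcMod fX K E ⟶ e.twist j) (hab : a ≫ b ≠ 0) :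
    BrSev.IsTwPow e j r E := by
  haveI := CurveCohLib.isNoetherian_of_proper (k := k) (X := X)
  have hr := pos_of_not_isZero hG hGt hGi.1
  have hunit := fun {u : End G} => isUnit_end hG hGt hGi (a := u)
  obtain ⟨ψ⟩ := hGt
  let π := BrSev.proj fX K
  have hh : IsPullback π (BrSev.bcTo fX K) fX (Spec.map (CommRingCat.ofHom (algebraMap k K))) :=
    IsPullback.of_hasPullback _ _
  let p₀ : BrSev.pow (e.twist j) r ⟶ e.twist j := KS92.proj (fun _ : Fin r => e.twist j) ⟨0, hr⟩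
  let ι₀ : e.twist j ⟶ BrSev.pow (e.twist j) r := Sigma.ι (fun _ : Fin r => e.twist j) ⟨0, hr⟩
  have hpι : ι₀ ≫ p₀ = 𝟙 _ := KS92.ι_proj_self _ _
  let φ : BrSev.bcMod fX K G ⟶ BrSev.bcMod fX K E := ψ.hom ≫ p₀ ≫ a
  let χ : BrSev.bcMod fX K E ⟶ BrSev.bcMod fX K G := b ≫ ι₀ ≫ ψ.inv
  have hne : φ ≫ χ ≠ 0 := fun h0 => hab (by
    have := congrArg (fun z => ι₀ ≫ ψ.inv ≫ z ≫ ψ.hom ≫ p₀) h0
    simpa [φ, χ, reassoc_of% hpι, hpι] using this)
  let β := Module.Free.chooseBasis k K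
  obtain ⟨S, f, hf⟩ := BCHom92.exists_sum hh β (CurveDeg.isCoh_of_isFinLocFree hG)
    (CurveDeg.isCoh_of_isFinLocFree hE).1 φ
  obtain ⟨T, g, hg⟩ := BCHom92.exists_sum hh β (CurveDeg.isCoh_of_isFinLocFree hE)
    (CurveDeg.isCoh_of_isFinLocFree hG).1 χ
  obtain ⟨s, -, t, -, hst⟩ : ∃ s ∈ S, ∃ t ∈ T, f s ≫ g t ≠ 0 := by
    by_contra hcon
    push Not at hcon
    haveI := (Scheme.Modules.pullbackPushforwardAdjunction π).left_adjoint_additive
    apply hne
    rw [hf, hg, Preadditive.sum_comp]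
    refine Finset.sum_eq_zero fun s hs => ?_
    rw [Preadditive.comp_sum]
    refine Finset.sum_eq_zero fun t ht => ?_
    refine (BCHom92.term_comp (π := π) (q := BrSev.bcTo fX K) (f s) (g t) (β s) (β t)).trans ?_
    rw [hcon s hs t ht, BCHom92.term, Functor.map_zero, zero_comp]
  haveI : IsIso (f s ≫ g t) := (isUnit_iff_isIso _).1 (hunit (u := f s ≫ g t) hst)
  obtain ⟨i⟩ := nonempty_iso_of_retract hGi.1 hEi (f s) (g t ≫ inv (f s ≫ g t))
    (by rw [← Category.assoc, IsIso.hom_inv_id])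
  exact ⟨(Scheme.Modules.pullback π).mapIso i.symm ≪≫ ψ⟩

/-- An indecomposable module whose base change is a retract of a sum of invertible modules is isotypical. -/
theorem exists_isTwPow_of_retract (hA : Module.finrank k A = (m + 1) * (m + 1))
    (hs : BrSev.IsSBOf k A ((m + 1) * (m + 1) - (m + 1)) fX) (e : BrSev.Splitting fX K m) {E : X.Modules}
    (hE : FlatMod.IsFinLocFree E) (hEi : KS92.Indec E) {s : ℕ} (Ls : Fin s → (BrSev.bc fX K).Modules)
    (hLs : ∀ i, PicF.IsInvertible (Ls i)) (i₀ : BrSev.bcMod fX K E ⟶ ∐ Ls) (r₀ : (∐ Ls) ⟶ BrSev.bcMod fX K E)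
    (h₀ : i₀ ≫ r₀ = 𝟙 _) : ∃ (j : ℤ) (r : ℕ), 0 < r ∧ BrSev.IsTwPow e j r E := by
  haveI := isIntegral_bc e
  haveI := CurveCohLib.isNoetherian_of_proper (k := k) (X := X)
  haveI : Algebra.IsAlgebraic k K := IsAlgClosure.isAlgebraic
  have hh : IsPullback (BrSev.proj fX K) (BrSev.bcTo fX K) fX (Spec.map (CommRingCat.ofHom (algebraMap k K))) :=
    IsPullback.of_hasPullback _ _
  letI : (BrSev.bc fX K).Over (Spec (CommRingCat.of K)) := ⟨BrSev.bcTo fX K⟩
  haveI : IsProper (BrSev.bc fX K ↘ Spec (CommRingCat.of K)) :=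
    MorphismProperty.of_isPullback (P := @IsProper) hh inferInstance
  haveI := CurveCohLib.isNoetherian_of_proper (k := K) (X := BrSev.bc fX K)
  have hE' : FlatMod.IsFinLocFree (BrSev.bcMod fX K E) := KFlatLib.isFinLocFree_pullback _ hE
  haveI := BCHom92.finite_hom (k := K) (CurveDeg.isCoh_of_isFinLocFree hE') (CurveDeg.isCoh_of_isFinLocFree hE')
  have hne : ¬ IsZero (BrSev.bcMod fX K E) := fun hz =>
    hEi.1 (BCHom92.isZero_of_isZero_pullback hh (CurveDeg.isCoh_of_isFinLocFree hE).1 hz)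
  obtain ⟨c, Fs, hFs, ⟨φ⟩⟩ := KS92.exists_decomp K (BrSev.bcMod fX K E)
  cases c with
  | zero => exact (hne (((IsZero.iff_id_eq_zero _).2 (Sigma.hom_ext _ _ fun i => i.elim0)).of_iso φ)).elim
  | succ c =>
    let i₁ : Fs 0 ⟶ BrSev.bcMod fX K E := Sigma.ι Fs 0 ≫ φ.inv
    let r₁ : BrSev.bcMod fX K E ⟶ Fs 0 := φ.hom ≫ KS92.proj Fs 0
    have h₁ : i₁ ≫ r₁ = 𝟙 _ := by simp [i₁, r₁]
    haveI := KS92.finite_of_retract K i₁ r₁ h₁
    haveI : Nontrivial (End (Fs 0)) :=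
      ⟨⟨1, 0, fun h => (hFs 0).1 ((IsZero.iff_id_eq_zero _).2 h)⟩⟩
    have hsum : ∑ t, (i₁ ≫ i₀) ≫ KS92.proj Ls t ≫ Sigma.ι Ls t ≫ (r₀ ≫ r₁) = 𝟙 (Fs 0) := by
      have : ∑ t, KS92.proj Ls t ≫ Sigma.ι Ls t = 𝟙 (∐ Ls) := KS92.sum_proj_ι Ls
      calc _ = (i₁ ≫ i₀) ≫ (∑ t, KS92.proj Ls t ≫ Sigma.ι Ls t) ≫ (r₀ ≫ r₁) := by
            simp only [Preadditive.comp_sum, Preadditive.sum_comp, Category.assoc]
        _ = 𝟙 _ := by rw [this, Category.id_comp, Category.assoc, reassoc_of% h₀, h₁]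
    obtain ⟨t, -, ht⟩ := KS92.exists_isUnit_of_sum (KS92.isUnit_or_isUnit_one_sub K (hFs 0)) Finset.univ
      (fun t => ((i₁ ≫ i₀) ≫ KS92.proj Ls t ≫ Sigma.ι Ls t ≫ (r₀ ≫ r₁) : End (Fs 0)))
      (by convert isUnit_one; exact hsum)
    haveI := (isUnit_iff_isIso _).1 ht
    obtain ⟨g⟩ := nonempty_iso_of_retract (hFs 0).1 (BCHom92.indec_of_isInvertible (hLs t))
      ((i₁ ≫ i₀) ≫ KS92.proj Ls t) ((Sigma.ι Ls t ≫ r₀ ≫ r₁) ≫ inv ((i₁ ≫ i₀) ≫ KS92.proj Ls t ≫ Sigma.ι Ls t ≫ (r₀ ≫ r₁)))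
      (by simp only [← Category.assoc]; exact IsIso.hom_inv_id _)
    obtain ⟨d, ⟨gd⟩⟩ := exists_iso_twist e (hLs t)
    obtain ⟨G, r, hG, hGi, hr, hGt⟩ := exists_indec hA hs e d
    refine ⟨d, r, hr, isTwPow_of_hom hE hEi hG hGi hGt ((g ≪≫ gd).inv ≫ i₁) (r₁ ≫ (g ≪≫ gd).hom) ?_⟩
    rw [Category.assoc, reassoc_of% h₁, Iso.inv_hom_id]
    exact fun h => not_isZero_twist e d ((IsZero.iff_id_eq_zero _).2 h)

/-- An absolutely split module is a sum of indecomposable isotypical modules. -/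
theorem exists_decomposition (hA : Module.finrank k A = (m + 1) * (m + 1))
    (hs : BrSev.IsSBOf k A ((m + 1) * (m + 1) - (m + 1)) fX) (e : BrSev.Splitting fX K m) {E : X.Modules}
    (hE : FlatMod.IsFinLocFree E) {s : ℕ} (Ls : Fin s → (BrSev.bc fX K).Modules)
    (hLs : ∀ i, PicF.IsInvertible (Ls i)) (σ : BrSev.bcMod fX K E ≅ ∐ Ls) :
    ∃ (t : ℕ) (Ms : Fin t → X.Modules) (js : Fin t → ℤ) (rs : Fin t → ℕ),
      (∀ i, FlatMod.IsFinLocFree (Ms i) ∧ KS92.Indec (Ms i) ∧ 0 < rs i ∧ BrSev.IsTwPow e (js i) (rs i) (Ms i)) ∧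
      Nonempty (E ≅ ∐ Ms) := by
  haveI := CurveCohLib.isNoetherian_of_proper (k := k) (X := X)
  haveI := BCHom92.finite_hom (k := k) (CurveDeg.isCoh_of_isFinLocFree hE) (CurveDeg.isCoh_of_isFinLocFree hE)
  obtain ⟨t, Ms, hMs, ⟨φ⟩⟩ := KS92.exists_decomp k E
  have hret : ∀ i, (Sigma.ι Ms i ≫ φ.inv) ≫ φ.hom ≫ KS92.proj Ms i = 𝟙 _ := fun i => by simp
  have hflf : ∀ i, FlatMod.IsFinLocFree (Ms i) := fun i => BCHom92.isFinLocFree_of_retract _ _ (hret i) hE
  have h : ∀ i, ∃ (j : ℤ) (r : ℕ), 0 < r ∧ BrSev.IsTwPow e j r (Ms i) := fun i =>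
    exists_isTwPow_of_retract hA hs e (hflf i) (hMs i) Ls hLs
      ((Scheme.Modules.pullback (BrSev.proj fX K)).map (Sigma.ι Ms i ≫ φ.inv) ≫ σ.hom)
      (σ.inv ≫ (Scheme.Modules.pullback (BrSev.proj fX K)).map (φ.hom ≫ KS92.proj Ms i))
      (by rw [Category.assoc, Iso.hom_inv_id_assoc, ← Functor.map_comp, hret i, CategoryTheory.Functor.map_id])
  choose js rs hr ht using h
  exact ⟨t, Ms, js, rs, fun i => ⟨hflf i, hMs i, hr i, ht i⟩, ⟨φ⟩⟩

end Groth.Agent.SBTw92
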