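import Groth.Agent.Lib.CurveLinear
import Groth.Agent.SheafHomX.Smul
import Groth.Prelude.Def_KLin
import Mathlib.RingTheory.TensorProduct.Basic
import Mathlib.CategoryTheory.Linear.Basic
import Mathlib.CategoryTheory.Preadditive.AdditiveFunctor

/-!
# Endomorphism algebras of powers and tensor products
-/

set_option autoImplicit false
set_option backward.isDefEq.respectTransparency false
set_option backward.isDefEq.respectTransparency.types false

universe u v

open CategoryTheory CategoryTheory.Limits AlgebraicGeometry
open scoped TensorProduct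

noncomputable section

namespace Groth.Agent.SBTw92

open Groth.Agent

section Power

variable (k : Type u) [Field k] {C : Type v} [Category.{u} C] [Preadditive C] [Linear k C]
  [HasFiniteCoproducts C] (W : C) (t : ℕ)

/-- The projection of a power. -/
def powPr (i : Fin t) : (∐ fun _ : Fin t => W) ⟶ W := Sigma.desc fun j => if j = i then 𝟙 W else 0

omit [Linear k C] in
theorem ι_powPr (i j : Fin t) :
    Sigma.ι (fun _ : Fin t => W) j ≫ powPr W t i = if j = i then 𝟙 W else 0 := Sigma.ι_desc _ _

omit [Linear k C] in
theorem sum_powPr : ∑ i, powPr W t i ≫ Sigma.ι (fun _ : Fin t => W) i = 𝟙 _ := by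
  refine Sigma.hom_ext _ _ fun j => ?_
  rw [Preadditive.comp_sum, Category.comp_id, Finset.sum_eq_single j]
  · rw [← Category.assoc, ι_powPr, if_pos rfl, Category.id_comp]
  · intro i _ hi
    rw [← Category.assoc, ι_powPr, if_neg (Ne.symm hi), zero_comp]
  · exact fun h => absurd (Finset.mem_univ j) h

/-- Endomorphisms of a power are matrices. -/
def endPowEquiv : End (∐ fun _ : Fin t => W) ≃ₐ[k] Matrix (Fin t) (Fin t) (End W) where
  toFun f := Matrix.of fun i j => Sigma.ι (fun _ : Fin t => W) j ≫ f ≫ powPr W t i
  invFun M := Sigma.desc fun j => ∑ i, (M i j : W ⟶ W) ≫ Sigma.ι (fun _ : Fin t => W) i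
  left_inv f := by
    refine Sigma.hom_ext _ _ fun j => ?_
    rw [Sigma.ι_desc]
    simp only [Matrix.of_apply, Category.assoc]
    rw [← Preadditive.comp_sum, ← Preadditive.comp_sum, sum_powPr, Category.comp_id]
  right_inv M := by
    ext i j
    simp only [Matrix.of_apply, Sigma.ι_desc_assoc, Preadditive.sum_comp, Category.assoc, ι_powPr]
    rw [Finset.sum_eq_single i (fun x _ hx => by rw [if_neg hx, comp_zero])
      (fun h => absurd (Finset.mem_univ i) h), if_pos rfl, Category.comp_id]
  map_mul' f g := by
    ext i j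
    rw [Matrix.mul_apply]
    show Sigma.ι (fun _ : Fin t => W) j ≫ (g ≫ f) ≫ powPr W t i =
      ∑ x, (Sigma.ι (fun _ : Fin t => W) j ≫ g ≫ powPr W t x) ≫ Sigma.ι (fun _ : Fin t => W) x ≫ f ≫ powPr W t i
    calc _ = Sigma.ι (fun _ : Fin t => W) j ≫ g ≫ (∑ x, powPr W t x ≫ Sigma.ι (fun _ : Fin t => W) x) ≫ f ≫ powPr W t i := by
          rw [sum_powPr, Category.id_comp, Category.assoc]
      _ = _ := by simp only [Preadditive.sum_comp, Preadditive.comp_sum, Category.assoc]
  map_add' f g := by
    ext i j
    show Sigma.ι (fun _ : Fin t => W) j ≫ (f + g) ≫ powPr W t i =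
      Sigma.ι (fun _ : Fin t => W) j ≫ f ≫ powPr W t i + Sigma.ι (fun _ : Fin t => W) j ≫ g ≫ powPr W t i
    rw [Preadditive.add_comp, Preadditive.comp_add]
  commutes' c := by
    ext i j
    rw [Algebra.algebraMap_eq_smul_one]
    show Sigma.ι (fun _ : Fin t => W) j ≫ (c • 𝟙 _) ≫ powPr W t i = _
    rw [Linear.smul_comp, Category.id_comp, Linear.comp_smul, ι_powPr, Matrix.algebraMap_matrix_apply]
    by_cases h : i = j
    · rw [if_pos h, if_pos h.symm, Algebra.algebraMap_eq_smul_one]
      rfl
    · rw [if_neg h, if_neg (Ne.symm h), smul_zero]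

omit [HasFiniteCoproducts C] in
/-- Conjugation by an isomorphism, as an isomorphism of algebras. -/
def endConj {X Y : C} (e : X ≅ Y) : End X ≃ₐ[k] End Y where
  toEquiv := e.conj.toEquiv
  map_mul' f g := e.conj.map_mul f g
  map_add' f g := by
    show e.inv ≫ ((f : X ⟶ X) + (g : X ⟶ X)) ≫ e.hom = _
    rw [Preadditive.add_comp, Preadditive.comp_add]
    rfl
  commutes' c := by
    rw [Algebra.algebraMap_eq_smul_one, Algebra.algebraMap_eq_smul_one]
    show e.conj (c • 𝟙 X) = c • 𝟙 Y
    simp [Iso.conj_apply]

end Power

section Tensor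

variable {k : Type u} [Field k] {X : Scheme.{u}} [X.Over (Spec (CommRingCat.of k))] (M T : X.Modules)

/-- The tensor product. -/
abbrev TP : X.Modules := (DCoh.tensorBi.obj M).obj T

/-- Endomorphisms of the first factor act on a tensor product. -/
def endTensorLeft : End M →ₐ[k] End (TP M T) :=
  haveI : ((DCoh.tensorBi (X := X)).flip.obj T).Additive := Functor.additive_of_preserves_binary_products _
  AlgHom.ofLinearMap
    { toFun := fun a => (DCoh.tensorBi.flip.obj T).map (X := M) (Y := M) a
      map_add' := fun a a' => (DCoh.tensorBi.flip.obj T).map_add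
      map_smul' := fun c a => by
        show (DCoh.tensorBi.flip.obj T).map (X := M) (Y := M) (c • a) =
          c • ((DCoh.tensorBi.flip.obj T).map (X := M) (Y := M) a : TP M T ⟶ TP M T)
        rw [KLin.smul_def, Functor.map_comp]
        show (DCoh.tensorBi.map (Formal.smulMod k M c)).app T ≫ _ = _
        rw [show (DCoh.tensorBi.map (Formal.smulMod k M c)).app T = Formal.smulMod k (TP M T) c from
          SheafHomX.ten_map_smulMod T M c, KLin.smul_def]
        rfl }
    ((DCoh.tensorBi.flip.obj T).map_id M) (fun a b => (DCoh.tensorBi.flip.obj T).map_comp b a)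

/-- Endomorphisms of the second factor act on a tensor product. -/
def endTensorRight : End T →ₐ[k] End (TP M T) :=
  haveI : ((DCoh.tensorBi (X := X)).obj M).Additive := Functor.additive_of_preserves_binary_products _
  AlgHom.ofLinearMap
    { toFun := fun a => (DCoh.tensorBi.obj M).map (X := T) (Y := T) a
      map_add' := fun a a' => (DCoh.tensorBi.obj M).map_add
      map_smul' := fun c a => by
        show (DCoh.tensorBi.obj M).map (X := T) (Y := T) (c • a) =
          c • ((DCoh.tensorBi.obj M).map (X := T) (Y := T) a : TP M T ⟶ TP M T)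
        rw [KLin.smul_def, Functor.map_comp, Formal.smulMod, CurveLinear.tensor_map_smul, KLin.smul_def]
        rfl }
    ((DCoh.tensorBi.obj M).map_id T) (fun a b => (DCoh.tensorBi.obj M).map_comp b a)

/-- The product of endomorphism algebras acts on a tensor product. -/
def endTensor : End M ⊗[k] End T →ₐ[k] End (TP M T) :=
  haveI : IsScalarTower k k (End M) := IsScalarTower.left k
  haveI : IsScalarTower k k (End (TP M T)) := IsScalarTower.left k
  Algebra.TensorProduct.lift (endTensorLeft M T) (endTensorRight M T) fun a a' =>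
    (((DCoh.tensorBi.map (X := M) (Y := M) a).naturality (X := T) (Y := T) a').symm.symm :)

end Tensor

end Groth.Agent.SBTw92
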