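import Groth.Agent.BCHom92.AlgMat
import Mathlib.Algebra.Central.Defs
import Mathlib.LinearAlgebra.Dimension.Finrank
import Mathlib.LinearAlgebra.Matrix.Basis

/-!
# Forms of matrix algebras: dimension and centre
-/

set_option autoImplicit false

universe u

namespace Groth.Agent.SBTw92

variable {k K B : Type u} [Field k] [Field K] [Algebra k K] [Ring B] [Algebra k B] {r : ℕ}
  (Φ : B →+* Matrix (Fin r) (Fin r) K)

/-- A form of `M_r(K)` has dimension `r²`. -/
theorem finrank_of_form [Module.Finite k B] (hΦk : ∀ (c : k) (a : B), Φ (c • a) = algebraMap k K c • Φ a)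
    (hsurj : ∀ M : Matrix (Fin r) (Fin r) K, ∃ (ι : Type) (_ : Fintype ι) (c : ι → K) (a : ι → B),
      M = ∑ i, c i • Φ (a i))
    (hind : ∀ {β : Type u} (b : Module.Basis β k K) (S : Finset β) (f : β → B),
      ∑ i ∈ S, b i • Φ (f i) = 0 → ∀ i ∈ S, f i = 0) :
    Module.finrank k B = r ^ 2 := by
  classical
  let e := Module.finBasis k B
  let b := Module.Free.chooseBasis k K
  let v : Fin (Module.finrank k B) → Matrix (Fin r) (Fin r) K := fun i => Φ (e i)
  have hli : LinearIndependent K v := by
    rw [Fintype.linearIndependent_iff]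
    intro c hc i
    let S := Finset.univ.biUnion fun i => (b.repr (c i)).support
    let f : _ → B := fun x => ∑ j, b.repr (c j) x • e j
    have hz : ∑ x ∈ S, b x • Φ (f x) = 0 := by
      rw [← hc]
      simp only [f, map_sum, hΦk, Finset.smul_sum, smul_smul]
      rw [Finset.sum_comm]
      refine Finset.sum_congr rfl fun j _ => ?_
      rw [← Finset.sum_smul]
      congr 1
      conv_rhs => rw [← b.linearCombination_repr (c j), Finsupp.linearCombination_apply]
      refine Eq.trans ?_ (Finsupp.sum_of_support_subset _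
        (Finset.subset_biUnion_of_mem (fun i => (b.repr (c i)).support) (Finset.mem_univ j))
        (fun x a => a • b x) (fun x _ => zero_smul k (b x))).symm
      exact Finset.sum_congr rfl fun x _ => by rw [Algebra.smul_def, mul_comm]
    refine b.repr.map_eq_zero_iff.1 (Finsupp.ext fun x => ?_)
    rw [Finsupp.zero_apply]
    by_cases hx : x ∈ S
    · exact Fintype.linearIndependent_iff.1 e.linearIndependent _ (hind b S f hz x hx) i
    · by_contra h0
      exact hx (Finset.mem_biUnion.2 ⟨i, Finset.mem_univ i, Finsupp.mem_support_iff.2 h0⟩)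
  have hspan : ⊤ ≤ Submodule.span K (Set.range v) := fun M _ => by
    obtain ⟨ι, _, c, a, rfl⟩ := hsurj M
    refine Submodule.sum_mem _ fun i _ => Submodule.smul_mem _ _ ?_
    rw [← e.sum_repr (a i), map_sum]
    refine Submodule.sum_mem _ fun j _ => ?_
    rw [hΦk]
    exact Submodule.smul_mem _ _ (Submodule.subset_span ⟨j, rfl⟩)
  have h := Module.finrank_eq_card_basis (Module.Basis.mk hli hspan)
  rw [Module.finrank_matrix, Module.finrank_self, Fintype.card_fin, Fintype.card_fin] at h
  rw [← h]
  ring

/-- A form of a matrix algebra is central. -/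
theorem isCentral_of_form (hΦk : ∀ (c : k) (a : B), Φ (c • a) = algebraMap k K c • Φ a)
    (hsurj : ∀ M : Matrix (Fin r) (Fin r) K, ∃ (ι : Type) (_ : Fintype ι) (c : ι → K) (a : ι → B),
      M = ∑ i, c i • Φ (a i))
    (hind : ∀ {β : Type u} (b : Module.Basis β k K) (S : Finset β) (f : β → B),
      ∑ i ∈ S, b i • Φ (f i) = 0 → ∀ i ∈ S, f i = 0) : Algebra.IsCentral k B := by
  classical
  refine ⟨fun z hz => ?_⟩
  rw [Subalgebra.mem_center_iff] at hz
  have hcomm : ∀ M : Matrix (Fin r) (Fin r) K, M * Φ z = Φ z * M := fun M => by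
    obtain ⟨ι, _, c, a, rfl⟩ := hsurj M
    rw [Finset.sum_mul, Finset.mul_sum]
    refine Finset.sum_congr rfl fun i _ => ?_
    rw [smul_mul_assoc, mul_smul_comm, ← map_mul, ← map_mul, hz (a i)]
  obtain ⟨t, ht⟩ : Φ z ∈ Set.range (Matrix.scalar (Fin r)) :=
    Matrix.mem_range_scalar_iff_commute_single'.2 fun i j => hcomm (Matrix.single i j 1)
  let hv : LinearIndependent k (fun _ : Unit => (1 : K)) := linearIndependent_unique_iff.2 one_ne_zero
  let b := Module.Basis.sumExtend hv
  have hb : b (Sum.inl ()) = 1 := by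
    simp [b, Module.Basis.sumExtend]
    rfl
  let S := insert (Sum.inl ()) (b.repr t).support
  let f : _ → B := fun x => b.repr t x • (1 : B) - if x = Sum.inl () then z else 0
  have hz0 : ∑ x ∈ S, b x • Φ (f x) = 0 := by
    simp only [f, map_sub, hΦk, map_one, smul_sub, Finset.sum_sub_distrib, smul_smul]
    rw [Finset.sum_eq_single (f := fun x => b x • Φ (if x = Sum.inl () then z else 0)) (Sum.inl ())
      (fun x _ hx => by rw [if_neg hx, map_zero, smul_zero]) (fun hn => absurd (Finset.mem_insert_self _ _) hn),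
      if_pos rfl, hb, one_smul, sub_eq_zero, ← ht, ← Finset.sum_smul]
    rw [Matrix.scalar_apply, ← Matrix.smul_one_eq_diagonal]
    congr 1
    conv_rhs => rw [← b.linearCombination_repr t, Finsupp.linearCombination_apply]
    refine Eq.trans ?_ (Finsupp.sum_of_support_subset _ (Finset.subset_insert (Sum.inl ()) _)
      (fun x a => a • b x) (fun x _ => zero_smul k (b x))).symm
    exact Finset.sum_congr rfl fun x _ => by rw [Algebra.smul_def, mul_comm]
  have := hind b S f hz0 (Sum.inl ()) (Finset.mem_insert_self _ _)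
  simp only [f, if_true, sub_eq_zero] at this
  rw [Algebra.mem_bot, Set.mem_range]
  exact ⟨b.repr t (Sum.inl ()), by rw [Algebra.algebraMap_eq_smul_one, this]⟩

end Groth.Agent.SBTw92
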