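import Groth.Agent.AModX.Res
import Groth.Agent.SBTw92.Coord
import Groth.Prelude.Def_KLin

/-!
# Affine opens of a scheme over a field as points
-/

set_option autoImplicit false
set_option backward.isDefEq.respectTransparency false
set_option backward.isDefEq.respectTransparency.types false

universe u

open CategoryTheory CategoryTheory.Limits AlgebraicGeometry TopologicalSpace Opposite
open scoped TensorProduct

noncomputable section

namespace Groth.Agent.SBTw92

open Groth.Agent Groth.Agent.AModX

variable {k : Type u} [Field k] {X Y : Scheme.{u}} (f : X ⟶ Spec (CommRingCat.of k))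

/-- The constants in the functions on an open. -/
def str (U : X.Opens) : k →+* Γ(X, U) := (resR le_top).comp (Coh.toGlobal f)

theorem resR_str {U V : X.Opens} (h : V ≤ U) (r : k) : resR h (str f U r) = str f V r :=
  resR_resR _ _ _

/-- Functions on an open as an algebra. -/
abbrev secAlg (U : X.Opens) : Algebra k Γ(X, U) := (str f U).toAlgebra

theorem fromSpec_comp {V : X.Opens} (hV : IsAffineOpen V) :
    hV.fromSpec ≫ f = Spec.map (CommRingCat.ofHom (str f V)) := by
  have h : f = X.toSpecΓ ≫ Spec.map ((Scheme.ΓSpecIso (CommRingCat.of k)).inv ≫ f.appTop) := by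
    rw [Spec.map_comp, ← Scheme.toSpecΓ_naturality_assoc, toSpecΓ_SpecMap_ΓSpecIso_inv, Category.comp_id]
  conv_lhs => rw [h]
  rw [hV.fromSpec_toSpecΓ_assoc, ← Spec.map_comp]
  rfl

/-- Restriction as a map of algebras. -/
def resAlg {U V : X.Opens} (h : V ≤ U) :
    letI := secAlg f U; letI := secAlg f V; Γ(X, U) →ₐ[k] Γ(X, V) :=
  letI := secAlg f U; letI := secAlg f V
  { resR h with commutes' := fun r => resR_str f h r }

variable {g : Y ⟶ X} {fY : Y ⟶ Spec (CommRingCat.of k)}

theorem appLE_str (hg : g ≫ f = fY) {U : X.Opens} {W : Y.Opens} (h : W ≤ g ⁻¹ᵁ U) (r : k) :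
    (g.appLE U W h).hom (str f U r) = str fY W r := by
  subst hg
  show (g.appLE U W h).hom (resR le_top (Coh.toGlobal f r)) = resR le_top (Coh.toGlobal (g ≫ f) r)
  rw [KLin.toGlobal_comp]
  show (X.presheaf.map (homOfLE le_top).op ≫ g.appLE U W h).hom (Coh.toGlobal f r) =
    (g.app ⊤ ≫ Y.presheaf.map (homOfLE le_top).op).hom (Coh.toGlobal f r)
  rw [Scheme.Hom.map_appLE, Scheme.Hom.appLE]

/-- Pulling back functions as a map of algebras. -/
def appLEAlg (hg : g ≫ f = fY) {U : X.Opens} {W : Y.Opens} (h : W ≤ g ⁻¹ᵁ U) :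
    letI := secAlg f U; letI := secAlg fY W; Γ(X, U) →ₐ[k] Γ(Y, W) :=
  letI := secAlg f U; letI := secAlg fY W
  { (g.appLE U W h).hom with commutes' := fun r => appLE_str f hg h r }

variable {A : Type u} [Ring A] [Algebra k A] {c : ℕ}

/-- The point given by an affine open. -/
def aPt {V : X.Opens} (hV : IsAffineOpen V) : letI := secAlg f V; BrSev.Pts f Γ(X, V) :=
  letI := secAlg f V
  ⟨hV.fromSpec, fromSpec_comp f hV⟩

variable {f} (s : BrSev.SBStr k A c f)

/-- The left ideal of an affine open. -/
def aIdeal {V : X.Opens} (hV : IsAffineOpen V) :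
    letI := secAlg f V; Module.Grassmannian Γ(X, V) (Γ(X, V) ⊗[k] A) c :=
  letI := secAlg f V
  (s.bij Γ(X, V) (aPt f hV)).1

/-- The pullback of the left ideal of an affine open. -/
theorem aIdeal_pullback {ι : Type} [Fintype ι] [DecidableEq ι] (b : Module.Basis ι k A)
    (hg : g ≫ f = fY) {V : X.Opens} (hV : IsAffineOpen V) {W : Y.Opens} (hW : IsAffineOpen W)
    (h : W ≤ g ⁻¹ᵁ V) :
    letI := secAlg f V; letI := secAlg fY W
    ∀ (p : BrSev.Pts f Γ(Y, W)), p.1 = hW.fromSpec ≫ g →
      coordIdeal b (Module.Grassmannian.map (appLEAlg f hg h) (aIdeal s hV)) =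
        coordIdeal b (s.bij Γ(Y, W) p).1 := by
  letI := secAlg f V; letI := secAlg fY W
  intro p hp
  have : p = BrSev.Pts.map f (appLEAlg f hg h) (aPt f hV) :=
    Subtype.ext (hp.trans (IsAffineOpen.SpecMap_appLE_fromSpec g hV hW h).symm)
  rw [this, coordIdeal, coordIdeal, s.natural]
  rfl

/-- The left ideals of nested affine opens. -/
theorem aIdeal_res {ι : Type} [Fintype ι] [DecidableEq ι] (b : Module.Basis ι k A)
    {V W : X.Opens} (hV : IsAffineOpen V) (hW : IsAffineOpen W) (h : W ≤ V) :
    letI := secAlg f V; letI := secAlg f W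
    coordIdeal b (Module.Grassmannian.map (resAlg f h) (aIdeal s hV)) = coordIdeal b (aIdeal s hW) := by
  letI := secAlg f V; letI := secAlg f W
  have : aPt f hW = BrSev.Pts.map f (resAlg f h) (aPt f hV) :=
    Subtype.ext (hV.map_fromSpec hW (homOfLE h).op).symm
  rw [aIdeal, aIdeal, this, coordIdeal, coordIdeal, s.natural]

end Groth.Agent.SBTw92
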