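import Groth.Agent.H23.Frame
import Groth.Agent.AModX.Res
import Groth.Agent.QCoh.Submod
import Groth.Prelude.Def_KLin
import Groth.Agent.SBTw92.Pt

/-!
# Sections of free modules, frames, and constant matrices
-/

set_option autoImplicit false
set_option backward.isDefEq.respectTransparency false
set_option backward.isDefEq.respectTransparency.types false

universe u

open CategoryTheory CategoryTheory.Limits AlgebraicGeometry TopologicalSpace Opposite

noncomputable section

namespace Groth.Agent.SBTw92

open Groth.Agent Groth.Agent.AModX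

variable {X : Scheme.{u}} {n : ℕ}

/-- Coordinates of a section of a free module. -/
def co (U : X.Opens) (s : Γ(FlatMod.freeMod X n, U)) : Fin n → Γ(X, U) :=
  fun i => (H23.Frame.proj X n i).app U s

/-- The section with given coordinates. -/
def mk (U : X.Opens) (r : Fin n → Γ(X, U)) : Γ(FlatMod.freeMod X n, U) :=
  ∑ i, r i • (H23.Frame.incl X n i).app U (H23.Frame.one U)

theorem co_mk (U : X.Opens) (r : Fin n → Γ(X, U)) : co U (mk U r) = r :=
  funext fun i => H23.Frame.proj_comb U r i

theorem mk_co (U : X.Opens) (s : Γ(FlatMod.freeMod X n, U)) : mk U (co U s) = s :=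
  H23.Frame.free_eq_sum U s

theorem co_injective (U : X.Opens) : Function.Injective (co (n := n) U) :=
  Function.LeftInverse.injective (mk_co U)

theorem co_add (U : X.Opens) (s t : Γ(FlatMod.freeMod X n, U)) : co U (s + t) = co U s + co U t :=
  funext fun i => map_add ((H23.Frame.proj X n i).app U).hom s t

theorem co_zero (U : X.Opens) : co U (0 : Γ(FlatMod.freeMod X n, U)) = 0 :=
  funext fun i => map_zero ((H23.Frame.proj X n i).app U).hom

theorem co_smul (U : X.Opens) (r : Γ(X, U)) (s : Γ(FlatMod.freeMod X n, U)) : co U (r • s) = r • co U s :=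
  funext fun i => Scheme.Modules.Hom.app_smul (H23.Frame.proj X n i) r s

theorem co_sum {σ : Type*} (t : Finset σ) (U : X.Opens) (s : σ → Γ(FlatMod.freeMod X n, U)) :
    co U (∑ j ∈ t, s j) = ∑ j ∈ t, co U (s j) :=
  map_sum ({ toFun := co U, map_zero' := co_zero U, map_add' := co_add U } :
    Γ(FlatMod.freeMod X n, U) →+ (Fin n → Γ(X, U))) s t

theorem co_res {U V : X.Opens} (h : V ≤ U) (s : Γ(FlatMod.freeMod X n, U)) :
    co V (res (FlatMod.freeMod X n) h s) = fun i => resR h (co U s i) :=
  funext fun i => app_res (H23.Frame.proj X n i) h s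

theorem res_comb {M : X.Modules} {U W W' : X.Opens} (s : Fin n → Γ(M, U)) (h : W ≤ U) (h' : W' ≤ W)
    (c : Fin n → Γ(X, W)) :
    res M h' (H23.Frame.comb M s W h c) = H23.Frame.comb M s W' (h'.trans h) fun i => resR h' (c i) := by
  simp only [H23.Frame.comb, map_sum]
  exact Finset.sum_congr rfl fun i _ => (res_smul h' (c i) _).trans (congrArg _ (res_res h h' (s i)))

theorem eq_of_locally' {V : X.Opens} (x y : Γ(X, V))
    (h : ∀ p ∈ V, ∃ (W : X.Opens) (i : W ≤ V), p ∈ W ∧ resR i x = resR i y) : x = y :=
  eq_of_locally (M := Coh.structureModule X) (show Γ(Coh.structureModule X, V) from x)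
    (show Γ(Coh.structureModule X, V) from y) h

/-- Frames may be checked on affine opens. -/
theorem isFrame_of_affine {M : X.Modules} {U : X.Opens} (s : Fin n → Γ(M, U))
    (hs : ∀ (W : X.Opens), IsAffineOpen W → ∀ h : W ≤ U, Function.Bijective (H23.Frame.comb M s W h)) :
    H23.Frame.IsFrame M s := by
  have hinj : ∀ (W : X.Opens) (h : W ≤ U), Function.Injective (H23.Frame.comb M s W h) := by
    intro W h c c' hc
    funext i
    refine eq_of_locally' _ _ fun p hp => ?_
    obtain ⟨W', hW', hpW', hle⟩ := exists_isAffineOpen_mem_and_subset hp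
    refine ⟨W', hle, hpW', congrFun ((hs W' hW' (le_trans hle h)).1
      (a₁ := fun j => resR hle (c j)) (a₂ := fun j => resR hle (c' j)) ?_) i⟩
    rw [← res_comb s h hle, ← res_comb s h hle, hc]
  intro W h
  refine ⟨hinj W h, fun y => ?_⟩
  choose V hV hpV hle using fun p : W => exists_isAffineOpen_mem_and_subset (U := W) p.2
  choose c hc using fun p : W => (hs (V p) (hV p) (le_trans (hle p) h)).2 (res M (hle p) y)
  have hcov : ∀ p ∈ W, ∃ q, p ∈ V q := fun p hp => ⟨⟨p, hp⟩, hpV ⟨p, hp⟩⟩
  have hglue : ∀ i : Fin n, ∃ g : Γ(X, W), ∀ p, resR (hle p) g = c p i := fun i => by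
    obtain ⟨g, hg, -⟩ := existsUnique_glue (M := Coh.structureModule X) V hle hcov
      (fun p => (show Γ(Coh.structureModule X, V p) from c p i)) fun p q => by
        refine congrFun (hinj _ (le_trans inf_le_left (le_trans (hle p) h))
          (a₁ := fun j => resR inf_le_left (c p j)) (a₂ := fun j => resR inf_le_right (c q j)) ?_) i
        rw [← res_comb s (le_trans (hle p) h) inf_le_left, ← res_comb s (le_trans (hle q) h) inf_le_right,
          hc, hc, res_res, res_res]
    exact ⟨g, hg⟩
  choose g hg using hglue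
  refine ⟨g, AModX.eq_of_locally _ _ fun p hp => ?_⟩
  obtain ⟨q, hq⟩ := hcov p hp
  refine ⟨V q, hle q, hq, ?_⟩
  rw [res_comb, ← hc q]
  exact congrArg _ (funext fun i => hg i q)

variable {k : Type u} [Field k]

/-- The endomorphism of a free module given by a constant matrix. -/
def matEnd (f : X ⟶ Spec (CommRingCat.of k)) (L : Matrix (Fin n) (Fin n) k) :
    FlatMod.freeMod X n ⟶ FlatMod.freeMod X n :=
  ∑ e : Fin n, ∑ d : Fin n, H23.Frame.proj X n d ≫
    Formal.smulModΓ (Coh.structureModule X) (Coh.toGlobal f (L e d)) ≫ H23.Frame.incl X n e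

theorem co_matEnd (f : X ⟶ Spec (CommRingCat.of k)) (L : Matrix (Fin n) (Fin n) k) (U : X.Opens)
    (s : Γ(FlatMod.freeMod X n, U)) : co U ((matEnd f L).app U s) = (L.map (str f U)).mulVec (co U s) := by
  classical
  rw [matEnd, H23.Frame.app_sum, co_sum]
  funext e
  rw [Finset.sum_apply]
  simp only [H23.Frame.app_sum, co_sum, Finset.sum_apply]
  have key : ∀ (e' d : Fin n), co U ((H23.Frame.proj X n d ≫
      Formal.smulModΓ (Coh.structureModule X) (Coh.toGlobal f (L e' d)) ≫ H23.Frame.incl X n e').app U s) e =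
      if e' = e then str f U (L e' d) * co U s d else 0 := by
    intro e' d
    show (H23.Frame.incl X n e' ≫ H23.Frame.proj X n e).app U
      ((Formal.smulModΓ (Coh.structureModule X) (Coh.toGlobal f (L e' d))).app U
        ((H23.Frame.proj X n d).app U s)) = _
    rw [H23.Frame.incl_proj, KLin.smulModΓ_app_apply]
    split_ifs <;> rfl
  simp only [key, Finset.sum_ite_irrel, Finset.sum_const_zero, Finset.sum_ite_eq', Finset.mem_univ, if_true]
  simp [Matrix.mulVec, dotProduct]

end Groth.Agent.SBTw92
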