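import Groth.Agent.SBTw92.Theta
import Groth.Agent.NSVar98.GenInj
import Groth.Agent.KFlatLib.Scheme.Exact
import Groth.Agent.PnCoh.TwistQCoh
import Groth.Agent.KS92.Local

/-!
# The tautological module becomes `O(-1)^n` over a splitting
-/

set_option autoImplicit false
set_option backward.isDefEq.respectTransparency false
set_option backward.isDefEq.respectTransparency.types false

universe u

open CategoryTheory CategoryTheory.Limits AlgebraicGeometry TopologicalSpace Opposite Matrix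
open scoped TensorProduct

noncomputable section

namespace Groth.Agent.SBTw92

open Groth.Agent Groth.Agent.AModX Groth.Agent.SBAut Groth.Agent.BrauerXSB

attribute [local instance] MvPolynomial.gradedAlgebra

variable {k : Type u} [Field k] {A : Type u} [Ring A] [Algebra k A] {K : Type u} [Field K] [Algebra k K]
  {m N₀ : ℕ} (Φ : K ⊗[k] A ≃ₐ[K] Matrix (Fin (m + 1)) (Fin (m + 1)) K) (b : Module.Basis (Fin N₀) k A)
  (hA : Module.finrank k A = (m + 1) * (m + 1))
  {X : Scheme.{u}} {f : X ⟶ Spec (CommRingCat.of k)}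
  (s : BrSev.SBStr k A ((m + 1) * (m + 1) - (m + 1)) f) {e : BrSev.Splitting f K m}
  (he : ∀ i, chart K i ≫ e.iso.inv = chartPt Φ hA s i)

local notation "𝐋" => Twist.twistProjSpace m K (-1)

/-- The adjoint of one row map. -/
def rowHom (a : Fin (m + 1)) : (Scheme.Modules.pullback (prP e)).obj (taut b s) ⟶ 𝐋 :=
  ((Scheme.Modules.pullbackPushforwardAdjunction (prP e)).homEquiv _ _).symm (theta Φ b hA s he a)

/-- The comparison with `O(-1)^n`. -/
def toPow : (Scheme.Modules.pullback (prP e)).obj (taut b s) ⟶ BrSev.pow 𝐋 (m + 1) :=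
  ∑ a, rowHom Φ b hA s he a ≫ Sigma.ι (fun _ : Fin (m + 1) => 𝐋) a

theorem rowHom_unit (a : Fin (m + 1)) (U : X.Opens) (t : Γ(taut b s, U)) :
    (rowHom Φ b hA s he a).app (prP e ⁻¹ᵁ U)
      (((Scheme.Modules.pullbackPushforwardAdjunction (prP e)).unit.app (taut b s)).app U t) =
      (theta Φ b hA s he a).app U t := by
  have h : (Scheme.Modules.pullbackPushforwardAdjunction (prP e)).unit.app (taut b s) ≫
      (Scheme.Modules.pushforward (prP e)).map (rowHom Φ b hA s he a) = theta Φ b hA s he a := by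
    exact ((Scheme.Modules.pullbackPushforwardAdjunction (prP e)).homEquiv_unit _ _ _).symm.trans
      (Equiv.apply_symm_apply _ _)
  exact congrArg (fun φ => Scheme.Modules.Hom.app φ U t) h

/-- A unit section on a smaller open. -/
def usec {U : X.Opens} {W : (CohB1.ProjSpace m K).Opens} (h : W ≤ prP e ⁻¹ᵁ U) (t : Γ(taut b s, U)) :
    Γ((Scheme.Modules.pullback (prP e)).obj (taut b s), W) :=
  res _ h (show Γ((Scheme.Modules.pullback (prP e)).obj (taut b s), prP e ⁻¹ᵁ U) from
    ((Scheme.Modules.pullbackPushforwardAdjunction (prP e)).unit.app (taut b s)).app U t)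

theorem toPow_usec {U : X.Opens} {W : (CohB1.ProjSpace m K).Opens} {i : Fin (m + 1)} (hWD : W ≤ dom i)
    (h : W ≤ prP e ⁻¹ᵁ U) (t : Γ(taut b s, U)) :
    (toPow Φ b hA s he).app W (usec b s h t) =
      ∑ a, resR h (rows Φ b s e U t a i) • (Sigma.ι (fun _ : Fin (m + 1) => 𝐋) a).app W (frm i hWD) := by
  rw [toPow, H23.Frame.app_sum]
  refine Finset.sum_congr rfl fun a _ => ?_
  show (Sigma.ι (fun _ : Fin (m + 1) => 𝐋) a).app W ((rowHom Φ b hA s he a).app W (usec b s h t)) = _
  rw [usec, app_res, rowHom_unit]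
  refine (congrArg ((Sigma.ι (fun _ : Fin (m + 1) => 𝐋) a).app W) (theta_app_res Φ b hA s he a U t hWD h)).trans ?_
  exact Scheme.Modules.Hom.app_smul _ _ _

include he in
theorem exists_preimage {i : Fin (m + 1)} {V : X.Opens} (hV : IsAffineOpen V)
    {W : (CohB1.ProjSpace m K).Opens} (hW : IsAffineOpen W) (hWD : W ≤ dom i) (hWV : W ≤ prP e ⁻¹ᵁ V)
    (a : Fin (m + 1)) :
    ∃ y, (toPow Φ b hA s he).app W y = (Sigma.ι (fun _ : Fin (m + 1) => 𝐋) a).app W (frm i hWD) := by
  obtain ⟨v, hv, hrow⟩ := chart_row Φ b hA s he hV hW hWD hWV a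
  let L : (Fin N₀ → Γ(CohB1.ProjSpace m K, W)) → Γ(BrSev.pow 𝐋 (m + 1), W) := fun w =>
    ∑ a', rowv Φ b (str (CohB1.ProjSpace.toSpec m K) W) w a' i •
      (Sigma.ι (fun _ : Fin (m + 1) => 𝐋) a').app W (frm i hWD)
  suffices h : ∀ w ∈ Submodule.span Γ(CohB1.ProjSpace m K, W)
      ((fun r : Fin N₀ → Γ(X, V) => (fun d => ((prP e).appLE V W hWV).hom (r d))) ''
        (affIdeal b s hV : Set (Fin N₀ → Γ(X, V)))), ∃ y, (toPow Φ b hA s he).app W y = L w by
    obtain ⟨y, hy⟩ := h v hv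
    refine ⟨y, hy.trans ?_⟩
    show ∑ a', _ = _
    rw [Finset.sum_eq_single a (fun a' _ ha => by rw [hrow a', if_neg ha, zero_smul])
      (fun ha => absurd (Finset.mem_univ a) ha), hrow a, if_pos rfl, one_smul]
  intro w hw
  induction hw using Submodule.span_induction with
  | mem x hx =>
    obtain ⟨r, hr, rfl⟩ := hx
    obtain ⟨t, rfl⟩ := exists_tco_eq b s hV hr
    refine ⟨usec b s hWV t, (toPow_usec Φ b hA s he hWD hWV t).trans (Finset.sum_congr rfl fun a' _ => ?_)⟩
    have h := resR_rows Φ b s V t a' i (le_refl V) hWV hWV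
    rw [res_self] at h
    rw [h]
  | zero => exact ⟨0, by simp [L, rowv]⟩
  | add x y _ _ hx hy =>
    obtain ⟨y₁, h₁⟩ := hx
    obtain ⟨y₂, h₂⟩ := hy
    exact ⟨y₁ + y₂, by rw [map_add, h₁, h₂]; simp [L, rowv, add_mul, Finset.sum_add_distrib, add_smul]⟩
  | smul c x _ hx =>
    obtain ⟨y₁, h₁⟩ := hx
    exact ⟨c • y₁, by
      rw [Scheme.Modules.Hom.app_smul, h₁]; simp [L, rowv, Finset.smul_sum, smul_smul, Finset.mul_sum, mul_assoc]⟩

theorem epi_toPow : Epi (toPow Φ b hA s he) := by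
  refine ⟨fun {Z} α β h => Sigma.hom_ext _ _ fun a => ?_⟩
  choose V hV hxV _ using fun x : CohB1.ProjSpace m K =>
    exists_isAffineOpen_mem_and_subset (X := X) (U := ⊤) (x := prP e x) trivial
  choose W hW hxW hle using fun x : CohB1.ProjSpace m K => exists_isAffineOpen_mem_and_subset
    (U := dom (K := K) (idx x) ⊓ prP e ⁻¹ᵁ V x) (x := x) ⟨mem_idx x, hxV x⟩
  have hWD : ∀ x, W x ≤ dom (K := K) (idx x) := fun x => le_trans (hle x) inf_le_left
  refine InvX.hom_ext_of_frames W (fun x => ⟨x, hxW x⟩) (fun x => frm (idx x) (hWD x))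
    (fun x => isFrame_frm _ (hWD x)) fun x => ?_
  obtain ⟨y, hy⟩ := exists_preimage Φ b hA s he (hV x) (hW x) (hWD x) (le_trans (hle x) inf_le_right) a
  show α.app (W x) ((Sigma.ι (fun _ : Fin (m + 1) => 𝐋) a).app (W x) _) =
    β.app (W x) ((Sigma.ι (fun _ : Fin (m + 1) => 𝐋) a).app (W x) _)
  rw [← hy]
  exact congrArg (fun φ => Scheme.Modules.Hom.app φ (W x) y) h

omit [Algebra k K] in
theorem isFinLocFreeOfRank_pow (d : ℤ) (n : ℕ) :
    FlatMod.IsFinLocFreeOfRank n (BrSev.pow (Twist.twistProjSpace m K d) n) := by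
  intro x
  obtain ⟨i, hi⟩ := exists_dom x
  let U := dom (K := K) i
  have hU : PnCoh.NonVan (𝒜 := CohB1.polyGrading m K) (MvPolynomial.X i) U := fun y => y.2
  haveI := PnCoh.isIso_twTriv (ProjPt.X_mem (R := K) i) d U hU
  exact ⟨U, hi, ⟨PreservesCoproduct.iso (Scheme.Modules.restrictFunctor U.ι) _ ≪≫
    Sigma.mapIso fun _ => (asIso (PnCoh.twTriv (ProjPt.X_mem (R := K) i) d U hU)).symm⟩⟩

include he in
/-- The tautological module pulls back to `O(-1)^n` on projective space. -/
theorem nonempty_iso_pow :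
    Nonempty ((Scheme.Modules.pullback (prP e)).obj (taut b s) ≅ BrSev.pow 𝐋 (m + 1)) := by
  haveI := epi_toPow Φ b hA s he
  have hN : N₀ - ((m + 1) * (m + 1) - (m + 1)) = m + 1 := by
    have : N₀ = (m + 1) * (m + 1) := by rw [← hA, Module.finrank_eq_card_basis b, Fintype.card_fin]
    have : m + 1 ≤ (m + 1) * (m + 1) := Nat.le_mul_self _
    omega
  have h1 := NSVar98.isFinLocFreeOfRank_pullback (prP e) (hN ▸ isFinLocFreeOfRank_taut b s)
  haveI : IsIso (toPow Φ b hA s he) := KFlatLib.isIso_of_stalk _ fun x => by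
    have hs : Function.Surjective ((DerSch.stalkFunctor _ x).map (toPow Φ b hA s he)) :=
      (ModuleCat.epi_iff_surjective _).1 inferInstance
    exact (ConcreteCategory.isIso_iff_bijective _).2
      ⟨NSVar98.injective_of_surjective_stalk h1 (isFinLocFreeOfRank_pow (-1) (m + 1)) _ x hs, hs⟩
  exact ⟨asIso (toPow Φ b hA s he)⟩

include he in
/-- The tautological module has type `O(-1)^n`. -/
theorem isTwPow_taut : BrSev.IsTwPow e (-1) (m + 1) (taut b s) := by
  obtain ⟨i⟩ := nonempty_iso_pow Φ b hA s he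
  exact ⟨(Scheme.Modules.pullbackId _).symm.app _ ≪≫ (Scheme.Modules.pullbackCongr e.iso.hom_inv_id.symm).app _ ≪≫
    ((Scheme.Modules.pullbackComp e.iso.hom e.iso.inv).app _).symm ≪≫
    (Scheme.Modules.pullback e.iso.hom).mapIso ((Scheme.Modules.pullbackComp e.iso.inv (BrSev.proj f K)).app _ ≪≫ i) ≪≫
    PreservesCoproduct.iso (Scheme.Modules.pullback e.iso.hom) _⟩

end Groth.Agent.SBTw92
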