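import Groth.Agent.SBTw92.EndAlg
import Groth.Agent.SBTw92.FormAlg
import Groth.Agent.SBTw92.Aut
import Groth.Agent.SBTw92.Split
import Groth.Agent.BCHom92.Summand
import Groth.Agent.BCHom92.InvIndec
import Groth.Agent.CSALib.Index
import Groth.Agent.KFlatLib.Perfect.Tensor
import Groth.Agent.H23.PullPush
import Mathlib.FieldTheory.IsAlgClosed.Basic

/-!
# Endomorphism algebras of isotypical modules on Severi–Brauer schemes
-/

set_option autoImplicit false
set_option backward.isDefEq.respectTransparency false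
set_option backward.isDefEq.respectTransparency.types false

universe u

open CategoryTheory CategoryTheory.Limits AlgebraicGeometry TopologicalSpace Opposite
open scoped TensorProduct

noncomputable section

set_option synthInstance.maxHeartbeats 200000

namespace Groth.Agent.SBTw92

open Groth.Agent Groth.Agent.CSALib

theorem not_isZero_of_isInvertible {Y : Scheme.{u}} [Nonempty Y] {L : Y.Modules} (hL : PicF.IsInvertible L) :
    ¬ IsZero L := fun hz => by
  obtain ⟨y⟩ := ‹Nonempty Y›
  obtain ⟨U, hy, s, hs⟩ := InvX.exists_frame hL y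
  haveI : Nontrivial Γ(Y, U) := (Y.presheaf.germ U y hy).hom.domain_nontrivial
  have h0 : ∀ z : Γ(L, U), z = 0 := fun z =>
    congrArg (fun φ => Scheme.Modules.Hom.app φ U z) ((IsZero.iff_id_eq_zero L).1 hz)
  exact one_ne_zero ((hs U le_rfl).1 (a₁ := (1 : Γ(Y, U))) (a₂ := 0) ((h0 _).trans (h0 _).symm))

variable {k : Type u} [Field k] {K : Type u} [Field K] [Algebra k K] [IsAlgClosure k K]
  {X : Scheme.{u}} [X.Over (Spec (CommRingCat.of k))] [IsProper (X ↘ Spec (CommRingCat.of k))] {n : ℕ}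
  (e : BrSev.Splitting (X ↘ Spec (CommRingCat.of k)) K n)

local notation "fX" => (X ↘ Spec (CommRingCat.of k))

include e in
omit [IsAlgClosure k K] [IsProper (X ↘ Spec (CommRingCat.of k))] in
theorem isIntegral_bc : IsIntegral (BrSev.bc fX K) := by
  haveI : IsIntegral (CohB1.ProjSpace n K) := H23.PnChart.isIntegral_projSpace n K
  haveI : Nonempty (BrSev.bc fX K) := ⟨e.iso.inv (Classical.arbitrary (CohB1.ProjSpace n K))⟩
  exact isIntegral_of_isOpenImmersion e.iso.hom

omit [IsAlgClosure k K] [IsProper (X ↘ Spec (CommRingCat.of k))] in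
theorem isInvertible_twist (j : ℤ) : PicF.IsInvertible (e.twist j) :=
  PicClLib.isInvertible_pullback e.iso.hom (Pn90.isInvertible_O (k := K) (n := n) j)

include e in
omit [IsAlgClosure k K] [IsProper (X ↘ Spec (CommRingCat.of k))] in
theorem not_isZero_twist (j : ℤ) : ¬ IsZero (e.twist j) :=
  haveI := isIntegral_bc e
  not_isZero_of_isInvertible (isInvertible_twist e j)

omit [IsAlgClosure k K] in
theorem indec_twist (j : ℤ) : KS92.Indec (e.twist j) :=
  haveI := isIntegral_bc e
  BCHom92.indec_of_isInvertible (isInvertible_twist e j)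

variable {e} {j : ℤ} {r : ℕ} {W : X.Modules}

theorem form_data (hW : FlatMod.IsFinLocFree W) (ht : BrSev.IsTwPow e j r W) :
    ∃ Φ : End W →+* Matrix (Fin r) (Fin r) K,
      (∀ (c : k) (a : End W), Φ (c • a) = algebraMap k K c • Φ a) ∧
      (∀ M : Matrix (Fin r) (Fin r) K, ∃ (ι : Type) (_ : Fintype ι) (c : ι → K) (a : ι → End W),
        M = ∑ i, c i • Φ (a i)) ∧
      (∀ {β : Type u} (b : Module.Basis β k K) (S : Finset β) (f : β → End W),
        ∑ i ∈ S, b i • Φ (f i) = 0 → ∀ i ∈ S, f i = 0) := by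
  haveI := isIntegral_bc e
  haveI : IsAlgClosed K := IsAlgClosure.isAlgClosed k
  haveI := CurveCohLib.isNoetherian_of_proper (k := k) (X := X)
  obtain ⟨i⟩ := ht
  exact BCHom92.exists_form (X' := BrSev.bc fX K) (π := BrSev.proj fX K) (q := BrSev.bcTo fX K)
    (IsPullback.of_hasPullback _ _) (CurveDeg.isCoh_of_isFinLocFree hW) (isInvertible_twist e j)
    (not_isZero_twist e j) i

theorem finite_end (hW : FlatMod.IsFinLocFree W) : Module.Finite k (End W) := by
  haveI := CurveCohLib.isNoetherian_of_proper (k := k) (X := X)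
  exact BCHom92.finite_hom (k := k) (CurveDeg.isCoh_of_isFinLocFree hW) (CurveDeg.isCoh_of_isFinLocFree hW)

theorem finrank_end (hW : FlatMod.IsFinLocFree W) (ht : BrSev.IsTwPow e j r W) :
    Module.finrank k (End W) = r ^ 2 := by
  obtain ⟨Φ, h1, h2, h3⟩ := form_data hW ht
  haveI := finite_end (k := k) hW
  exact finrank_of_form Φ h1 h2 h3

theorem centralSimple_end (hW : FlatMod.IsFinLocFree W) (ht : BrSev.IsTwPow e j r W) (hr : 0 < r) :
    Algebra.IsCentral k (End W) ∧ IsSimpleRing (End W) ∧ Module.Finite k (End W) := by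
  obtain ⟨Φ, h1, h2, h3⟩ := form_data hW ht
  exact ⟨isCentral_of_form Φ h1 h2 h3, BCHom92.isSimpleRing_of_form Φ hr h1 h2 h3, finite_end hW⟩

theorem pos_of_not_isZero (hW : FlatMod.IsFinLocFree W) (ht : BrSev.IsTwPow e j r W) (h0 : ¬ IsZero W) :
    0 < r := by
  refine Nat.pos_of_ne_zero fun hr => h0 ((IsZero.iff_id_eq_zero W).2 ?_)
  subst hr
  haveI := finite_end (k := k) hW
  haveI : Subsingleton (End W) := Module.finrank_zero_iff.1 (by rw [finrank_end hW ht]; rfl : Module.finrank k (End W) = 0)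
  exact Subsingleton.elim (α := End W) _ _

theorem isUnit_end (hW : FlatMod.IsFinLocFree W) (ht : BrSev.IsTwPow e j r W) (hi : KS92.Indec W)
    {a : End W} (ha : a ≠ 0) : IsUnit a := by
  obtain ⟨Φ, h1, h2, h3⟩ := form_data hW ht
  haveI := finite_end (k := k) hW
  refine BCHom92.isUnit_of_ne_zero (k := k) Φ (KS92.idem_trivial hi) ?_ h2 ha
  refine (injective_iff_map_eq_zero Φ).2 fun a ha => ?_
  obtain ⟨i⟩ := (Module.Free.chooseBasis k K).index_nonempty
  exact h3 (Module.Free.chooseBasis k K) {i} (fun _ => a) (by simp [ha]) i (by simp)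

/-- The division ring of endomorphisms of an indecomposable isotypical module. -/
@[reducible] def endDivisionRing (hW : FlatMod.IsFinLocFree W) (ht : BrSev.IsTwPow e j r W) (hi : KS92.Indec W) :
    DivisionRing (End W) :=
  haveI : Nontrivial (End W) := ⟨⟨1, 0, fun h => hi.1 ((IsZero.iff_id_eq_zero W).2 h)⟩⟩
  DivisionRing.ofIsUnitOrEqZero fun a => (em (a = 0)).symm.imp_left (isUnit_end hW ht hi)

theorem endTensor_bijective {M T : X.Modules} {a b : ℤ} {r s : ℕ} (hM : FlatMod.IsFinLocFree M)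
    (hT : FlatMod.IsFinLocFree T) (hMt : BrSev.IsTwPow e a r M) (hTt : BrSev.IsTwPow e b s T)
    (hr : 0 < r) (hs : 0 < s) : Function.Bijective (endTensor (k := k) M T) := by
  obtain ⟨_, _, _⟩ := centralSimple_end hM hMt hr
  obtain ⟨_, _, _⟩ := centralSimple_end hT hTt hs
  have ht : BrSev.IsTwPow e (a + b) (r * s) (TP M T) := isTwPow_tensor e a b r s M T hMt hTt
  have hf : FlatMod.IsFinLocFree (TP M T) := KFlatLib.isFinLocFree_tensor hM hT
  obtain ⟨_, _, _⟩ := centralSimple_end hf ht (Nat.mul_pos hr hs)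
  haveI := CSALib.isSimpleRing_tensorProduct k (End M) (End T)
  have hinj : Function.Injective (endTensor (k := k) M T) := RingHom.injective (endTensor (k := k) M T).toRingHom
  have hdim : Module.finrank k (End M ⊗[k] End T) = Module.finrank k (End (TP M T)) := by
    rw [Module.finrank_tensorProduct, finrank_end hM hMt, finrank_end hT hTt, finrank_end hf ht, mul_pow]
  exact ⟨hinj, ((LinearMap.injective_iff_surjective_of_finrank_eq_finrank hdim).1 hinj :
    Function.Surjective (endTensor (k := k) M T).toLinearMap)⟩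

variable {A : Type u} [Ring A] [Algebra k A] [Algebra.IsCentral k A] [IsSimpleRing A]
  {m : ℕ} (hA : Module.finrank k A = (m + 1) * (m + 1))

include hA in
theorem exists_taut (hs : BrSev.IsSBOf k A ((m + 1) * (m + 1) - (m + 1)) fX)
    (e : BrSev.Splitting fX K m) :
    ∃ N : X.Modules, FlatMod.IsFinLocFree N ∧ BrSev.IsTwPow e (-1) (m + 1) N ∧ Nonempty (A ≃ₐ[k] End N) := by
  obtain ⟨s⟩ := hs
  haveI : Module.Finite k A := Module.finite_of_finrank_pos (by rw [hA]; positivity)
  haveI : IsAlgClosed K := IsAlgClosure.isAlgClosed k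
  obtain ⟨Φ⟩ : Nonempty (K ⊗[k] A ≃ₐ[K] Matrix (Fin (m + 1)) (Fin (m + 1)) K) := by
    haveI : Module.Finite k A := Module.finite_of_finrank_pos (by rw [hA]; positivity)
    haveI := CSALib.isCentral_baseChange k A K
    haveI := CSALib.isSimpleRing_baseChange k A K
    obtain ⟨l, hl, ⟨E⟩⟩ := CSALib.exists_algEquiv_matrix_of_isSepClosed (k := K) (K ⊗[k] A)
    have h1 := E.toLinearEquiv.finrank_eq
    rw [Module.finrank_baseChange, hA, Module.finrank_matrix, Module.finrank_self, Fintype.card_fin, mul_one] at h1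
    have : l = m + 1 := Nat.mul_self_inj.1 h1.symm
    subst this
    exact ⟨E⟩
  let b := Module.finBasisOfFinrankEq k A hA
  obtain ⟨e₀, he₀⟩ := BrauerXSB.exists_splitting_chart Φ hA s
  have ht : BrSev.IsTwPow e (-1) (m + 1) (taut b s) := isTwPow_congr e (isTwPow_taut Φ b hA s he₀)
  have hN : FlatMod.IsFinLocFree (taut b s) := fun x =>
    let ⟨U, hU, h⟩ := isFinLocFreeOfRank_taut b s x
    ⟨U, _, hU, h⟩
  refine ⟨taut b s, hN, ht, ?_⟩
  obtain ⟨_, _, _⟩ := centralSimple_end hN ht (Nat.succ_pos m)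
  haveI : Module.Finite k A := Module.finite_of_finrank_pos (by rw [hA]; positivity)
  let g : A →ₐ[k] End (taut b s) := AlgHom.ofLinearMap
    { toFun := act b s, map_add' := map_add (act b s), map_smul' := fun c a => act_smul b s c a }
    (map_one (act b s)) (map_mul (act b s))
  have hinj : Function.Injective g := RingHom.injective g.toRingHom
  exact ⟨AlgEquiv.ofBijective g ⟨hinj, ((LinearMap.injective_iff_surjective_of_finrank_eq_finrank
    (by rw [hA, finrank_end hN ht, pow_two])).1 hinj : Function.Surjective g.toLinearMap)⟩⟩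

omit [IsAlgClosure k K] [IsProper (X ↘ Spec (CommRingCat.of k))] in
theorem isTwPow_structure : BrSev.IsTwPow e 0 1 (Coh.structureModule X) := by
  obtain ⟨a⟩ := PicClLib.nonempty_pullback_structureModule (BrSev.proj fX K)
  obtain ⟨b⟩ := PicClLib.nonempty_pullback_structureModule e.iso.hom
  obtain ⟨z⟩ := Pn90.O_zero (k := K) (n := n)
  let c : BrSev.pow (e.twist 0) 1 ≅ e.twist 0 :=
    { hom := Sigma.desc fun _ => 𝟙 _
      inv := Sigma.ι (fun _ : Fin 1 => e.twist 0) 0
      hom_inv_id := Sigma.hom_ext _ _ fun i => by simp [Subsingleton.elim i 0]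
      inv_hom_id := by simp }
  exact ⟨a ≪≫ b.symm ≪≫ (Scheme.Modules.pullback e.iso.hom).mapIso z.symm ≪≫ c.symm⟩

include hA in
theorem exists_tpow (hs : BrSev.IsSBOf k A ((m + 1) * (m + 1) - (m + 1)) fX) (e : BrSev.Splitting fX K m) (i : ℕ) :
    ∃ M : X.Modules, FlatMod.IsFinLocFree M ∧ BrSev.IsTwPow e (-(i : ℤ)) ((m + 1) ^ i) M ∧
      Nonempty (CSAGal.tpow k A i ≃ₐ[k] End M) := by
  obtain ⟨N, hN, hNt, ⟨gN⟩⟩ := exists_taut hA hs e
  induction i with
  | zero =>
    have h0 : BrSev.IsTwPow e 0 1 (Coh.structureModule X) := isTwPow_structure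
    have hO : FlatMod.IsFinLocFree (Coh.structureModule X) := H23.PullPush.isFinLocFree_of_isInvertible InvX.isInvertible_structureModule
    obtain ⟨_, _, _⟩ := centralSimple_end hO h0 one_pos
    refine ⟨Coh.structureModule X, hO, by simpa using h0, ⟨(powZero k A).trans (AlgEquiv.ofBijective
      (Algebra.ofId k (End (Coh.structureModule X))) ?_)⟩⟩
    have hinj : Function.Injective (Algebra.ofId k (End (Coh.structureModule X))) :=
      RingHom.injective (Algebra.ofId k (End (Coh.structureModule X))).toRingHom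
    exact ⟨hinj, ((LinearMap.injective_iff_surjective_of_finrank_eq_finrank
      (by rw [Module.finrank_self, finrank_end hO h0, one_pow])).1 hinj :
        Function.Surjective (Algebra.ofId k (End (Coh.structureModule X))).toLinearMap)⟩
  | succ i ih =>
    obtain ⟨M, hM, hMt, ⟨gM⟩⟩ := ih
    refine ⟨TP N M, KFlatLib.isFinLocFree_tensor hN hM, ?_, ⟨(powSucc k A i).trans
      ((Algebra.TensorProduct.congr gN gM).trans (AlgEquiv.ofBijective _
        (endTensor_bijective hN hM hNt hMt (Nat.succ_pos m) (pow_pos (Nat.succ_pos m) i))))⟩⟩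
    have := isTwPow_tensor e _ _ _ _ N M hNt hMt
    rwa [show (-1 : ℤ) + -(i : ℤ) = -((i + 1 : ℕ) : ℤ) by push_cast; ring,
      show (m + 1) * (m + 1) ^ i = (m + 1) ^ (i + 1) by ring] at this

include hA in
/-- The indecomposable module of type `O(-i)`. -/
theorem exists_indec_index (hs : BrSev.IsSBOf k A ((m + 1) * (m + 1) - (m + 1)) fX)
    (e : BrSev.Splitting fX K m) (i : ℕ) :
    ∃ (G : X.Modules) (r : ℕ), FlatMod.IsFinLocFree G ∧ KS92.Indec G ∧ 0 < r ∧
      BrSev.IsTwPow e (-(i : ℤ)) r G ∧ CSAGal.IsIndex k (CSAGal.tpow k A i) r := by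
  obtain ⟨M, hM, hMt, ⟨g⟩⟩ := exists_tpow hA hs e i
  haveI : FiniteDimensional k A := Module.finite_of_finrank_pos (by rw [hA]; positivity)
  haveI : IsAlgClosed K := IsAlgClosure.isAlgClosed k
  haveI := isIntegral_bc e
  haveI := CurveCohLib.isNoetherian_of_proper (k := k) (X := X)
  haveI : Algebra.IsAlgebraic k K := IsAlgClosure.isAlgebraic
  obtain ⟨ψ⟩ := hMt
  have hMt : BrSev.IsTwPow e (-(i : ℤ)) ((m + 1) ^ i) M := ⟨ψ⟩
  have hh : IsPullback (BrSev.proj fX K) (BrSev.bcTo fX K) fX (Spec.map (CommRingCat.ofHom (algebraMap k K))) :=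
    IsPullback.of_hasPullback _ _
  obtain ⟨_, _, _⟩ := centralSimple_end hM hMt (pow_pos (Nat.succ_pos m) i)
  have hM0 : ¬ IsZero M := fun hz => one_ne_zero (α := End M) ((IsZero.iff_id_eq_zero M).1 hz)
  have hL := CurveDeg.isCoh_of_isInvertible (isInvertible_twist e (-(i : ℤ)))
  have hC := CurveDeg.isCoh_of_isFinLocFree hM
  obtain ⟨G, t, ι, ρ, hιρ, hG, ⟨φ⟩⟩ := (BCHom92.exists_pow_indec (π := BrSev.proj fX K) hh hC hM0 hL
    (indec_twist e _) ψ).1
  have hGf : FlatMod.IsFinLocFree G := BCHom92.isFinLocFree_of_retract ι ρ hιρ hM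
  obtain ⟨r, hr⟩ := BCHom92.exists_iso_pow_of_retract (π := BrSev.proj fX K) hh ι ρ hιρ hC hL (indec_twist e _) ψ
  have hGt : BrSev.IsTwPow e (-(i : ℤ)) r G := hr
  have hr0 := pos_of_not_isZero hGf hGt hG.1
  refine ⟨G, r, hGf, hG, hr0, hGt, ?_⟩
  letI := endDivisionRing hGf hGt hG
  obtain ⟨_, _, _⟩ := centralSimple_pow k A i
  exact isIndex_of_algEquiv_matrix (g.trans ((endConj k φ).trans (endPowEquiv k G t))) (finrank_end hGf hGt)

end Groth.Agent.SBTw92
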