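import Groth.Agent.SBTw92.Index
import Groth.Agent.BCHom92.Main
import Groth.Agent.CSALib.PiTensor
import Groth.Agent.NSVar98.GenInj
import Groth.Agent.Lib.CurveDualPrep

/-!
# Multiplicities of indecomposable modules of type `O(j)` on Severi–Brauer schemes
-/

set_option autoImplicit false
set_option backward.isDefEq.respectTransparency false
set_option backward.isDefEq.respectTransparency.types false

universe u

open CategoryTheory CategoryTheory.Limits AlgebraicGeometry TopologicalSpace Opposite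
open scoped TensorProduct

noncomputable section

set_option synthInstance.maxHeartbeats 200000

namespace Groth.Agent.SBTw92

open Groth.Agent Groth.Agent.CSALib

section Algebra

variable {k : Type u} [Field k]

/-- Algebras with split tensor product have the same index. -/
theorem index_eq_of_tensor_split {B C : Type u} [Ring B] [Algebra k B] [Algebra.IsCentral k B]
    [IsSimpleRing B] [FiniteDimensional k B] [Ring C] [Algebra k C] [Algebra.IsCentral k C]
    {r r' : ℕ} (hB : CSAGal.IsIndex k B r) (hC : CSAGal.IsIndex k C r') (h : Similar k (B ⊗[k] C) k) :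
    r = r' := by
  obtain ⟨D, _, _, _, _, hD, hBD⟩ := exists_index_data hB
  have h1 : Similar k C Bᵐᵒᵖ :=
    similar_tensor_self_left.symm.trans ((((similar_of_algEquiv (Algebra.TensorProduct.comm k _ _)).trans
      (similar_tensor_op k B)).symm.tensor similar_refl).trans
        ((similar_of_algEquiv (Algebra.TensorProduct.assoc k k k _ _ _)).trans
          ((similar_refl.tensor h).trans similar_tensor_self_right)))
  obtain ⟨n, m, hn, hm, ⟨e⟩⟩ := hBD
  have h2 : Similar k Bᵐᵒᵖ Dᵐᵒᵖ :=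
    ⟨n, m, hn, hm, ⟨AlgEquiv.mopMatrix.trans ((AlgEquiv.op e).trans AlgEquiv.mopMatrix.symm)⟩⟩
  exact ((index_eq_of_similar (D' := Dᵐᵒᵖ) hC
    (by rw [← (MulOpposite.opLinearEquiv k (M := D)).finrank_eq, hD]) (h1.trans h2))).symm

end Algebra

variable {k : Type u} [Field k] {K : Type u} [Field K] [Algebra k K] [IsAlgClosure k K]
  {X : Scheme.{u}} [X.Over (Spec (CommRingCat.of k))] [IsProper (X ↘ Spec (CommRingCat.of k))] {n : ℕ}
  {e : BrSev.Splitting (X ↘ Spec (CommRingCat.of k)) K n}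

local notation "fX" => (X ↘ Spec (CommRingCat.of k))

/-- Indecomposable modules of the same type are isomorphic. -/
theorem iso_of_isTwPow {W W' : X.Modules} {j : ℤ} {r r' : ℕ} (hW : FlatMod.IsFinLocFree W)
    (hW' : FlatMod.IsFinLocFree W') (hi : KS92.Indec W) (hi' : KS92.Indec W')
    (ht : BrSev.IsTwPow e j r W) (ht' : BrSev.IsTwPow e j r' W') : Nonempty (W ≅ W') ∧ r = r' := by
  haveI := CurveCohLib.isNoetherian_of_proper (k := k) (X := X)
  haveI : Algebra.IsAlgebraic k K := IsAlgClosure.isAlgebraic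
  obtain ⟨φ⟩ := ht
  obtain ⟨φ'⟩ := ht'
  obtain ⟨g⟩ := BCHom92.nonempty_iso_of_isotypical (π := BrSev.proj fX K) (q := BrSev.bcTo fX K)
    (IsPullback.of_hasPullback _ _) (CurveDeg.isCoh_of_isFinLocFree hW) (CurveDeg.isCoh_of_isFinLocFree hW')
    hi hi' (e.twist j) r r' φ φ'
  refine ⟨⟨g⟩, Nat.pow_left_injective two_ne_zero ?_⟩
  show r ^ 2 = r' ^ 2
  rw [← finrank_end hW ⟨φ⟩, ← finrank_end hW' ⟨φ'⟩, (endConj k g).toLinearEquiv.finrank_eq]

/-- The endomorphism algebra of a module of type `O` is split. -/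
theorem similar_end_of_type_zero {T : X.Modules} {r : ℕ} (hT : FlatMod.IsFinLocFree T)
    (ht : BrSev.IsTwPow e 0 r T) (hr : 0 < r) : Similar k (End T) k := by
  haveI := CurveCohLib.isNoetherian_of_proper (k := k) (X := X)
  haveI : Algebra.IsAlgebraic k K := IsAlgClosure.isAlgebraic
  have h0 : BrSev.IsTwPow e 0 1 (Coh.structureModule X) := isTwPow_structure
  have hO : FlatMod.IsFinLocFree (Coh.structureModule X) :=
    H23.PullPush.isFinLocFree_of_isInvertible InvX.isInvertible_structureModule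
  obtain ⟨φ⟩ := ht
  obtain ⟨a⟩ := h0
  haveI := (Scheme.Modules.pullbackPushforwardAdjunction (BrSev.proj fX K)).left_adjoint_additive
  have hC : Coh.IsCoh (∐ fun _ : Fin r => Coh.structureModule X) :=
    BCHom92.isCoh_coproduct _ fun _ => CurveDeg.isCoh_of_isFinLocFree hO
  obtain ⟨g⟩ := BCHom92.nonempty_iso_of_pullback_iso (π := BrSev.proj fX K) (q := BrSev.bcTo fX K)
    (IsPullback.of_hasPullback _ _) (CurveDeg.isCoh_of_isFinLocFree hT) hC
    (φ ≪≫ Sigma.mapIso (fun _ => (a ≪≫ coproductUniqueIso _).symm) ≪≫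
      (PreservesCoproduct.iso (Scheme.Modules.pullback (BrSev.proj fX K)) _).symm)
  obtain ⟨_, _, _⟩ := centralSimple_end hO ⟨a⟩ one_pos
  have hinj : Function.Injective (Algebra.ofId k (End (Coh.structureModule X))) :=
    RingHom.injective (Algebra.ofId k (End (Coh.structureModule X))).toRingHom
  have hbij : Function.Bijective (Algebra.ofId k (End (Coh.structureModule X))) :=
    ⟨hinj, ((LinearMap.injective_iff_surjective_of_finrank_eq_finrank
      (by rw [Module.finrank_self, finrank_end hO ⟨a⟩, one_pow])).1 hinj :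
        Function.Surjective (Algebra.ofId k (End (Coh.structureModule X))).toLinearMap)⟩
  exact similar_of_algEquiv_matrix hr.ne' ((endConj k g).trans ((endPowEquiv k _ r).trans
    (AlgEquiv.ofBijective _ hbij).symm.mapMatrix))

theorem isIndex_end {W : X.Modules} {j : ℤ} {r : ℕ} (hW : FlatMod.IsFinLocFree W) (hi : KS92.Indec W)
    (ht : BrSev.IsTwPow e j r W) (hr : 0 < r) : CSAGal.IsIndex k (End W) r := by
  obtain ⟨_, _, _⟩ := centralSimple_end hW ht hr
  letI := endDivisionRing hW ht hi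
  exact isIndex_of_similar (D' := End W) (finrank_end hW ht) similar_refl

theorem similar_end_tensor {W W' : X.Modules} {j : ℤ} {r r' : ℕ} (hW : FlatMod.IsFinLocFree W)
    (hW' : FlatMod.IsFinLocFree W') (ht : BrSev.IsTwPow e j r W) (ht' : BrSev.IsTwPow e (-j) r' W')
    (hr : 0 < r) (hr' : 0 < r') : Similar k (End W ⊗[k] End W') k := by
  have hb := endTensor_bijective (k := k) hW hW' ht ht' hr hr'
  have htT : BrSev.IsTwPow e 0 (r * r') (TP W W') := add_neg_cancel j ▸ isTwPow_tensor e j (-j) r r' W W' ht ht'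
  have h1 : Similar k (End W ⊗[k] End W') (End (TP W W')) :=
    similar_of_algEquiv (AlgEquiv.ofBijective (endTensor (k := k) W W') hb)
  exact h1.trans (similar_end_of_type_zero (KFlatLib.isFinLocFree_tensor hW hW') htT (Nat.mul_pos hr hr'))

/-- Indecomposable modules of opposite types have the same multiplicity. -/
theorem mult_neg {W W' : X.Modules} {j : ℤ} {r r' : ℕ} (hW : FlatMod.IsFinLocFree W)
    (hW' : FlatMod.IsFinLocFree W') (hi : KS92.Indec W) (hi' : KS92.Indec W')
    (ht : BrSev.IsTwPow e j r W) (ht' : BrSev.IsTwPow e (-j) r' W') : r = r' := by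
  have hr := pos_of_not_isZero hW ht hi.1
  have hr' := pos_of_not_isZero hW' ht' hi'.1
  obtain ⟨_, _, _⟩ := centralSimple_end hW ht hr
  obtain ⟨_, _, _⟩ := centralSimple_end hW' ht' hr'
  exact index_eq_of_tensor_split (B := End W) (C := End W') (isIndex_end hW hi ht hr)
    (isIndex_end hW' hi' ht' hr') (similar_end_tensor hW hW' ht ht' hr hr')

variable {A : Type u} [Ring A] [Algebra k A] [Algebra.IsCentral k A] [IsSimpleRing A]
  {m : ℕ}

/-- The multiplicity of the indecomposable module of type `O(j)` is the index of `A^|j|`. -/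
theorem isIndex_natAbs (hA : Module.finrank k A = (m + 1) * (m + 1))
    (hs : BrSev.IsSBOf k A ((m + 1) * (m + 1) - (m + 1)) fX) {e : BrSev.Splitting fX K m}
    {W : X.Modules} {j : ℤ} {r : ℕ} (hW : FlatMod.IsFinLocFree W) (hi : KS92.Indec W)
    (ht : BrSev.IsTwPow e j r W) : CSAGal.IsIndex k (CSAGal.tpow k A j.natAbs) r := by
  obtain ⟨G, r₀, hG, hGi, -, hGt, hidx⟩ := exists_indec_index hA hs e j.natAbs
  rcases Int.natAbs_eq j with h | h
  · rw [mult_neg hW hG hi hGi ht (by rwa [← h] at hGt)]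
    exact hidx
  · rw [(iso_of_isTwPow hW hG hi hGi ht (by rwa [← h] at hGt)).2]
    exact hidx

omit [IsAlgClosure k K] [IsProper (X ↘ Spec (CommRingCat.of k))] in
/-- A locally free module that becomes invertible over a field extension is invertible. -/
theorem isInvertible_of_pullback {W : X.Modules} (hW : FlatMod.IsFinLocFree W)
    {L : (BrSev.bc fX K).Modules} (hL : PicF.IsInvertible L)
    (φ : (Scheme.Modules.pullback (BrSev.proj fX K)).obj W ≅ L) : PicF.IsInvertible W := by
  refine CurveDuality.isInvertible_of_rank_one fun x => ?_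
  obtain ⟨U, ρ, hx, ⟨g⟩⟩ := hW x
  haveI : Surjective (Spec.map (CommRingCat.ofHom (algebraMap k K))) :=
    ⟨fun _ => ⟨(IsLocalRing.closedPoint K : PrimeSpectrum K), Subsingleton.elim (α := PrimeSpectrum k) _ _⟩⟩
  obtain ⟨y, hy⟩ := (BrSev.proj fX K).surjective x
  let π := BrSev.proj fX K
  have h : (π ⁻¹ᵁ U).ι ≫ π = (π ∣_ U) ≫ U.ι := (morphismRestrict_ι π U).symm
  have h1 : FlatMod.IsFinLocFreeOfRank ρ ((Scheme.Modules.pullback (π ∣_ U)).obj (W.restrict U.ι)) :=
    NSVar98.isFinLocFreeOfRank_pullback _ fun z => ⟨⊤, trivial, ⟨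
      (Scheme.Modules.restrictFunctor (⊤ : U.toScheme.Opens).ι).mapIso g ≪≫
        (Scheme.Modules.restrictFunctorIsoPullback _).app _ ≪≫
        (PreservesCoproduct.iso (Scheme.Modules.pullback _) _) ≪≫
        Sigma.mapIso (fun _ => (PicClLib.nonempty_pullback_structureModule (⊤ : U.toScheme.Opens).ι).some)⟩⟩
  have h2 : FlatMod.IsFinLocFreeOfRank 1 ((Scheme.Modules.pullback (π ∣_ U)).obj (W.restrict U.ι)) := fun z => by
    obtain ⟨V, hV, ⟨v⟩⟩ := InvEnd.isFinLocFreeOfRank_one (PicClLib.isInvertible_pullback (π ⁻¹ᵁ U).ι hL) z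
    exact ⟨V, hV, ⟨(Scheme.Modules.restrictFunctor V.ι).mapIso
      ((Scheme.Modules.pullback (π ∣_ U)).mapIso ((Scheme.Modules.restrictFunctorIsoPullback U.ι).app W) ≪≫
        (Scheme.Modules.pullbackComp (π ∣_ U) U.ι).app W ≪≫
        (Scheme.Modules.pullbackCongr h.symm).app W ≪≫
        ((Scheme.Modules.pullbackComp (π ⁻¹ᵁ U).ι π).app W).symm ≪≫
        (Scheme.Modules.pullback (π ⁻¹ᵁ U).ι).mapIso φ) ≪≫ v⟩⟩
  have hyU : y ∈ π ⁻¹ᵁ U := show π y ∈ U by rw [hy]; exact hx
  have hρ : ρ = 1 := (NSVar98.finrank_stalk_eq h1 ⟨y, hyU⟩).1.symm.trans (NSVar98.finrank_stalk_eq h2 ⟨y, hyU⟩).1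
  exact ⟨U, hx, ⟨g ≪≫ eqToIso (by rw [hρ])⟩⟩

end Groth.Agent.SBTw92
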