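import Groth.Agent.SBTw92.Free

/-!
# The tautological module on a Severi–Brauer scheme
-/

set_option autoImplicit false
set_option backward.isDefEq.respectTransparency false
set_option backward.isDefEq.respectTransparency.types false

universe u

open CategoryTheory CategoryTheory.Limits AlgebraicGeometry TopologicalSpace Opposite Matrix
open scoped TensorProduct

noncomputable section

namespace Groth.Agent.SBTw92

open Groth.Agent Groth.Agent.AModX

variable {k : Type u} [Field k] {A : Type u} [Ring A] [Algebra k A] {N₀ : ℕ} (b : Module.Basis (Fin N₀) k A)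
  {c : ℕ} {X : Scheme.{u}} {f : X ⟶ Spec (CommRingCat.of k)} (s : BrSev.SBStr k A c f)

/-- The coordinate ideal of an affine open. -/
def affIdeal {V : X.Opens} (hV : IsAffineOpen V) : Submodule Γ(X, V) (Fin N₀ → Γ(X, V)) :=
  letI := secAlg f V
  coordIdeal b (aIdeal s hV)

theorem map_mem_affIdeal {V W : X.Opens} (hV : IsAffineOpen V) (hW : IsAffineOpen W) (h : W ≤ V)
    {r : Fin N₀ → Γ(X, V)} (hr : r ∈ affIdeal b s hV) : (fun i => resR h (r i)) ∈ affIdeal b s hW := by
  letI := secAlg f V; letI := secAlg f W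
  show _ ∈ coordIdeal b (aIdeal s hW)
  rw [← aIdeal_res s b hV hW h, coordIdeal_map]
  exact Submodule.subset_span ⟨r, hr, rfl⟩

theorem mem_affIdeal_of_locally {V : X.Opens} (hV : IsAffineOpen V) (r : Fin N₀ → Γ(X, V))
    (h : ∀ p ∈ V, ∃ (W : X.Opens) (hW : IsAffineOpen W) (i : W ≤ V), p ∈ W ∧
      (fun e => resR i (r e)) ∈ affIdeal b s hW) : r ∈ affIdeal b s hV := by
  letI := secAlg f V
  obtain ⟨H, hH, hN⟩ := exists_proj b (aIdeal s hV)
  refine (hN r).2 (funext fun e => eq_of_locally' _ _ fun p hp => ?_)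
  obtain ⟨W, hW, i, hpW, hr⟩ := h p hp
  letI := secAlg f W
  refine ⟨W, i, hpW, ?_⟩
  have h1 : (fun e => resR i (r e)) ∈ coordIdeal b (Module.Grassmannian.map (resAlg f i) (aIdeal s hV)) := by
    rw [aIdeal_res s b hV hW i]
    exact hr
  have h2 := congrFun ((mem_coordIdeal_map b hH hN (resAlg f i) _).1 h1) e
  rw [Pi.zero_apply, map_zero]
  refine Eq.trans ?_ h2
  simp only [Matrix.mulVec, dotProduct, map_sum, map_mul, Matrix.map_apply]
  rfl

/-- The tautological submodule. -/
def tautSub : QCoh.SubMod (FlatMod.freeMod X N₀) where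
  mem U :=
    { carrier := {t | ∀ (V : X.Opens) (hV : IsAffineOpen V) (h : V ≤ U),
        co V (res (FlatMod.freeMod X N₀) h t) ∈ affIdeal b s hV}
      zero_mem' := fun V hV h => by rw [map_zero, co_zero]; exact zero_mem _
      add_mem' := fun ha hb V hV h => by rw [map_add, co_add]; exact add_mem (ha V hV h) (hb V hV h)
      smul_mem' := fun r t ht V hV h => by
        rw [res_smul, co_smul]; exact Submodule.smul_mem _ _ (ht V hV h) }
  map_mem {U W} i t ht V hV h := by
    show co V (res _ h (res _ i t)) ∈ _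
    rw [res_res]
    exact ht V hV _
  of_locally U t ht V hV h := by
    refine mem_affIdeal_of_locally b s hV _ fun p hp => ?_
    obtain ⟨W, i, hpW, hW⟩ := ht p (h hp)
    obtain ⟨W', hW', hpW', hle⟩ := exists_isAffineOpen_mem_and_subset (U := W ⊓ V) ⟨hpW, hp⟩
    have hle' : W' ≤ W ⊓ V := hle
    refine ⟨W', hW', hle'.trans inf_le_right, hpW', ?_⟩
    have h1 : co W' (res (FlatMod.freeMod X N₀) (hle'.trans inf_le_left) (res (FlatMod.freeMod X N₀) i t)) ∈
        affIdeal b s hW' := hW W' hW' _
    have h2 := co_res (hle'.trans inf_le_right) (res (FlatMod.freeMod X N₀) h t)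
    rw [res_res] at h1 h2
    rw [← h2]
    exact h1

theorem mem_tautSub_affine {V : X.Opens} (hV : IsAffineOpen V) (t : Γ(FlatMod.freeMod X N₀, V)) :
    t ∈ (tautSub b s).mem V ↔ co V t ∈ affIdeal b s hV := by
  refine ⟨fun h => ?_, fun h W hW hle => ?_⟩
  · have := h V hV le_rfl
    rwa [res_self] at this
  · rw [co_res]
    exact map_mem_affIdeal b s hV hW hle h

/-- The tautological module. -/
abbrev taut : X.Modules := (tautSub b s).toModules

/-- Coordinates of a section of the tautological module. -/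
def tco (U : X.Opens) (t : Γ(taut b s, U)) : Fin N₀ → Γ(X, U) := co U ((tautSub b s).ι.app U t)

theorem tco_injective (U : X.Opens) : Function.Injective (tco b s U) :=
  (co_injective U).comp ((tautSub b s).ι_app_injective U)

theorem tco_res {U V : X.Opens} (h : V ≤ U) (t : Γ(taut b s, U)) :
    tco b s V (res (taut b s) h t) = fun i => resR h (tco b s U t i) := by
  rw [tco, app_res]
  exact co_res h _

theorem tco_add (U : X.Opens) (t t' : Γ(taut b s, U)) : tco b s U (t + t') = tco b s U t + tco b s U t' :=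
  (congrArg (co U) (map_add ((tautSub b s).ι.app U).hom t t')).trans (co_add _ _ _)

theorem tco_zero (U : X.Opens) : tco b s U (0 : Γ(taut b s, U)) = 0 :=
  (congrArg (co U) (map_zero ((tautSub b s).ι.app U).hom)).trans (co_zero _)

theorem tco_smul (U : X.Opens) (r : Γ(X, U)) (t : Γ(taut b s, U)) : tco b s U (r • t) = r • tco b s U t :=
  (congrArg (co U) (Scheme.Modules.Hom.app_smul (tautSub b s).ι r t)).trans (co_smul _ _ _)

theorem tco_mem {V : X.Opens} (hV : IsAffineOpen V) (t : Γ(taut b s, V)) : tco b s V t ∈ affIdeal b s hV :=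
  (mem_tautSub_affine b s hV _).1 ((tautSub b s).ι_app_mem V t)

theorem exists_tco_eq {V : X.Opens} (hV : IsAffineOpen V) {r : Fin N₀ → Γ(X, V)} (hr : r ∈ affIdeal b s hV) :
    ∃ t : Γ(taut b s, V), tco b s V t = r := by
  obtain ⟨t, ht⟩ := (tautSub b s).exists_app_eq (U := V) (s := mk V r)
    ((mem_tautSub_affine b s hV _).2 (by rwa [co_mk]))
  exact ⟨t, by rw [tco, ht, co_mk]⟩

theorem tco_comb {m : ℕ} {U W : X.Opens} (v : Fin m → Γ(taut b s, U)) (h : W ≤ U) (a : Fin m → Γ(X, W)) :
    tco b s W (H23.Frame.comb (taut b s) v W h a) = ∑ j, a j • fun i => resR h (tco b s U (v j) i) := by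
  let φ : Γ(taut b s, W) →+ (Fin N₀ → Γ(X, W)) :=
    { toFun := tco b s W, map_zero' := tco_zero b s W, map_add' := tco_add b s W }
  show φ (∑ j, _) = _
  rw [map_sum]
  refine Finset.sum_congr rfl fun j _ => ?_
  exact (tco_smul b s W _ _).trans (congrArg _ (tco_res b s h (v j)))

/-- The tautological module is locally free of rank `N₀ - c`. -/
theorem isFinLocFreeOfRank_taut : FlatMod.IsFinLocFreeOfRank (N₀ - c) (taut b s) := by
  intro x
  obtain ⟨V, hV, hxV, -⟩ := exists_isAffineOpen_mem_and_subset (Opens.mem_top x)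
  letI := secAlg f V
  obtain ⟨h, E, hh, hE, huniq⟩ := exists_local_basis b (aIdeal s hV)
    (n := N₀ - c) (by rw [Fintype.card_fin]) (hV.primeIdealOf ⟨x, hxV⟩).asIdeal
  have hD : X.basicOpen h ≤ V := X.basicOpen_le h
  choose t ht using fun j => exists_tco_eq b s hV (hE j)
  refine ⟨X.basicOpen h, (QCoh.mem_basicOpen_iff_notMem hV hxV h).2 hh, H23.Frame.exists_iso_of_frame
    (fun j => res (taut b s) hD (t j)) (isFrame_of_affine _ fun W hW hle => ?_)⟩
  letI := secAlg f W
  have hWV : W ≤ V := hle.trans hD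
  have hu : IsUnit (resAlg f hWV h) := AModX.isUnit_resR _ _ hle
  have key := huniq Γ(X, W) (resAlg f hWV) hu
  have hsum : ∀ a : Fin (N₀ - c) → Γ(X, W), tco b s W (H23.Frame.comb (taut b s)
      (fun j => res (taut b s) hD (t j)) W hle a) = ∑ j, a j • (resAlg f hWV ∘ E j) := fun a => by
    rw [tco_comb]
    refine Finset.sum_congr rfl fun j _ => congrArg _ (funext fun i => ?_)
    rw [tco_res, ht]
    exact resR_resR _ _ _
  have hmem : ∀ y : Γ(taut b s, W),
      tco b s W y ∈ coordIdeal b (Module.Grassmannian.map (resAlg f hWV) (aIdeal s hV)) := fun y => by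
    rw [aIdeal_res s b hV hW hWV]
    exact tco_mem b s hW y
  refine ⟨fun a a' haa => ?_, fun y => ?_⟩
  · obtain ⟨a₀, -, huni⟩ := key _ (hmem (H23.Frame.comb (taut b s) (fun j => res (taut b s) hD (t j)) W hle a))
    exact (huni a (hsum a)).trans (huni a' ((congrArg (tco b s W) haa).trans (hsum a'))).symm
  · obtain ⟨a₀, ha₀, -⟩ := key _ (hmem y)
    exact ⟨a₀, tco_injective b s W ((hsum a₀).trans ha₀.symm)⟩

/-- Left multiplication in coordinates preserves the ideals. -/
theorem lmul_mem_affIdeal (a : A) {V : X.Opens} (hV : IsAffineOpen V) {r : Fin N₀ → Γ(X, V)}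
    (hr : r ∈ affIdeal b s hV) :
    ((Algebra.leftMulMatrix b a).map (str f V)) *ᵥ r ∈ affIdeal b s hV := by
  letI := secAlg f V
  obtain ⟨x, hx, rfl⟩ := hr
  have h : ((Algebra.leftMulMatrix b a).map (str f V)) *ᵥ cV b Γ(X, V) x = cV b Γ(X, V) (((1 : Γ(X, V)) ⊗ₜ[k] a) * x) := by
    clear hx
    induction x using TensorProduct.induction_on with
    | zero => simp
    | tmul r a' =>
      funext d
      have hd : b.repr (a * a') d = ∑ e, Algebra.leftMulMatrix b a d e * b.repr a' e :=
        (congrFun (Algebra.leftMulMatrix_mulVec_repr b a a') d).symm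
      rw [Algebra.TensorProduct.tmul_mul_tmul, one_mul, cV_tmul, hd, map_sum, Finset.mul_sum]
      simp only [Matrix.mulVec, dotProduct, Matrix.map_apply, cV_tmul, map_mul]
      refine Finset.sum_congr rfl fun e _ => ?_
      rw [RingHom.algebraMap_toAlgebra]
      ring
    | add x y hx hy => rw [map_add, Matrix.mulVec_add, hx, hy, mul_add, map_add]
  exact h ▸ (cV_mem_coordIdeal b).2 ((s.bij Γ(X, V) (aPt f hV)).2 _ x hx)

theorem matEnd_mem (a : A) (U : X.Opens) (t : Γ(taut b s, U)) :
    (matEnd f (Algebra.leftMulMatrix b a)).app U ((tautSub b s).ι.app U t) ∈ (tautSub b s).mem U := by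
  intro V hV h
  rw [← app_res, co_matEnd, ← app_res]
  exact lmul_mem_affIdeal b s a hV (tco_mem b s hV _)

/-- Lift of a morphism landing in a submodule. -/
def liftSub {M G : X.Modules} (N : QCoh.SubMod M) (φ : G ⟶ M) (h : ∀ U t, φ.app U t ∈ N.mem U) :
    G ⟶ N.toModules where
  val := PresheafOfModules.homMk
    { app := fun U => AddCommGrpCat.ofHom (AddMonoidHom.mk'
        (fun t => (⟨φ.app U.unop t, h U.unop t⟩ : N.mem U.unop))
        fun t t' => Subtype.ext (map_add (φ.app U.unop).hom t t'))
      naturality := fun U V i => by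
        ext t
        exact Subtype.ext (QCoh.map_app_comm φ i.unop t) }
    fun U r t => Subtype.ext (Scheme.Modules.Hom.app_smul φ r t)

theorem liftSub_app {M G : X.Modules} (N : QCoh.SubMod M) (φ : G ⟶ M) (h : ∀ U t, φ.app U t ∈ N.mem U)
    (U : X.Opens) (t : Γ(G, U)) : N.ι.app U ((liftSub N φ h).app U t) = φ.app U t := rfl

/-- Left multiplication on the tautological module. -/
def actEnd (a : A) : taut b s ⟶ taut b s :=
  liftSub (tautSub b s) ((tautSub b s).ι ≫ matEnd f (Algebra.leftMulMatrix b a)) (matEnd_mem b s a)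

theorem tco_actEnd (a : A) (U : X.Opens) (t : Γ(taut b s, U)) :
    tco b s U ((actEnd b s a).app U t) = ((Algebra.leftMulMatrix b a).map (str f U)) *ᵥ tco b s U t :=
  co_matEnd f _ U _

theorem hom_ext_tco {G : X.Modules} {φ ψ : G ⟶ taut b s}
    (h : ∀ U t, tco b s U (φ.app U t) = tco b s U (ψ.app U t)) : φ = ψ := by
  refine Scheme.Modules.hom_ext _ _ fun U => ?_
  ext t
  exact tco_injective b s U (h U t)

/-- The action of the algebra on the tautological module. -/
def act : A →+* End (taut b s) where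
  toFun := actEnd b s
  map_one' := hom_ext_tco b s fun U t => by
    rw [tco_actEnd, map_one, Matrix.map_one _ (map_zero _) (map_one _), Matrix.one_mulVec]
    rfl
  map_mul' a a' := hom_ext_tco b s fun U t => by
    show _ = tco b s U ((actEnd b s a).app U ((actEnd b s a').app U t))
    rw [tco_actEnd, tco_actEnd, tco_actEnd, map_mul, Matrix.map_mul, Matrix.mulVec_mulVec]
  map_zero' := hom_ext_tco b s fun U t => by
    rw [tco_actEnd, map_zero, Matrix.map_zero _ (map_zero _), Matrix.zero_mulVec]
    exact (tco_zero b s U).symm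
  map_add' a a' := hom_ext_tco b s fun U t => by
    show _ = tco b s U ((actEnd b s a).app U t + (actEnd b s a').app U t)
    rw [tco_add, tco_actEnd, tco_actEnd, tco_actEnd, map_add, Matrix.map_add _ (map_add _), Matrix.add_mulVec]

theorem act_smul (r : k) (a : A) :
    letI : X.Over (Spec (CommRingCat.of k)) := ⟨f⟩
    act b s (r • a) = r • act b s a := by
  letI : X.Over (Spec (CommRingCat.of k)) := ⟨f⟩
  refine hom_ext_tco b s fun U t => ?_
  show tco b s U ((actEnd b s (r • a)).app U t) = tco b s U ((r • actEnd b s a).app U t)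
  rw [KLin.smul_app_apply, tco_smul, tco_actEnd, tco_actEnd, map_smul]
  funext d
  simp only [Matrix.mulVec, dotProduct, Matrix.map_apply, Matrix.smul_apply, smul_eq_mul, map_mul, Pi.smul_apply,
    Finset.mul_sum, mul_assoc]
  rfl

end Groth.Agent.SBTw92
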