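import Groth.Agent.SBTw92.Chart
import Groth.Agent.PnCoh.TwistTriv
import Groth.Agent.InvX.Frame

/-!
# The rows of the tautological module as sections of `O(-1)`
-/

set_option autoImplicit false
set_option backward.isDefEq.respectTransparency false
set_option backward.isDefEq.respectTransparency.types false

universe u

open CategoryTheory CategoryTheory.Limits AlgebraicGeometry TopologicalSpace Opposite Matrix
open scoped TensorProduct

noncomputable section

namespace Groth.Agent.SBTw92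

open Groth.Agent Groth.Agent.AModX Groth.Agent.SBAut Groth.Agent.BrauerXSB

attribute [local instance] MvPolynomial.gradedAlgebra

section Values

variable {K : Type u} [Field K] {m : ℕ}

local notation "𝐆" => CohB1.polyGrading m K


/-- The value of a function at a point. -/
def pv {U : (CohB1.ProjSpace m K).Opens} (c : Γ(CohB1.ProjSpace m K, U)) (x : U) : Twist.Loc 𝐆 x.1 :=
  ((c : Twist.O (𝒜 := 𝐆) (op U)).1 x).val

theorem pv_mul {U : (CohB1.ProjSpace m K).Opens} (c d : Γ(CohB1.ProjSpace m K, U)) (x : U) :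
    pv (c * d) x = pv c x * pv d x := HomogeneousLocalization.val_mul _ _

theorem pv_one {U : (CohB1.ProjSpace m K).Opens} (x : U) :
    pv (1 : Γ(CohB1.ProjSpace m K, U)) x = 1 := HomogeneousLocalization.val_one

theorem pv_zero {U : (CohB1.ProjSpace m K).Opens} (x : U) :
    pv (0 : Γ(CohB1.ProjSpace m K, U)) x = 0 := HomogeneousLocalization.val_zero

theorem pv_add {U : (CohB1.ProjSpace m K).Opens} (c d : Γ(CohB1.ProjSpace m K, U)) (x : U) :
    pv (c + d) x = pv c x + pv d x := HomogeneousLocalization.val_add _ _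

theorem pv_res {U V : (CohB1.ProjSpace m K).Opens} (h : V ≤ U) (c : Γ(CohB1.ProjSpace m K, U)) (x : V) :
    pv (resR h c) x = pv c ⟨x.1, h x.2⟩ := rfl

theorem exists_dom (x : CohB1.ProjSpace m K) : ∃ i : Fin (m + 1), x ∈ dom (K := K) i := by
  obtain ⟨i, y, hy⟩ := (Proj.affineOpenCoverOfIrrelevantLESpan 𝐆 _ (fun l => ProjPt.X_mem l) (fun _ => one_pos)
    (SegreX.irrelevant_le_span m K)).openCover.exists_eq x
  refine ⟨i, ?_⟩
  have h : x ∈ (Proj.awayι 𝐆 (MvPolynomial.X i) (ProjPt.X_mem i) one_pos).opensRange := ⟨y, hy⟩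
  rwa [Proj.opensRange_awayι] at h

/-- The frame `1 / x_i` of `O(-1)`. -/
def frm (i : Fin (m + 1)) {W : (CohB1.ProjSpace m K).Opens} (h : W ≤ dom i) :
    Γ(Twist.twistProjSpace m K (-1), W) :=
  PnCoh.twPow (ProjPt.X_mem i) (-1) (U := W) fun x => h x.2

theorem frm_res (i : Fin (m + 1)) {W W' : (CohB1.ProjSpace m K).Opens} (h : W ≤ dom i) (h' : W' ≤ W) :
    res (Twist.twistProjSpace m K (-1)) h' (frm i h) = frm i (h'.trans h) := rfl

theorem isFrame_frm (i : Fin (m + 1)) {W : (CohB1.ProjSpace m K).Opens} (h : W ≤ dom i) :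
    InvX.IsFrame (frm (K := K) i h) := fun _ hV =>
  PnCoh.trivMap_bijective (ProjPt.X_mem i) (-1) (fun x => h (hV x.2))

theorem smul_frm_val (i : Fin (m + 1)) {W : (CohB1.ProjSpace m K).Opens} (h : W ≤ dom i)
    (c : Γ(CohB1.ProjSpace m K, W)) (x : W) :
    ((show Twist.sectN (𝒜 := 𝐆) (-1) (op W) from c • frm i h).1 x).1 =
      pv c x * Localization.mk 1 ⟨(MvPolynomial.X i : MvPolynomial (Fin (m + 1)) K), h x.2⟩ := by
  refine (Twist.coe_smul_val _ _ _ _).trans (congrArg (pv c x * ·) ?_)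
  refine (PnCoh.twPow_apply (ProjPt.X_mem i) (-1) _ x).trans ?_
  rw [Localization.mk_eq_mk_iff, Localization.r_iff_exists]
  exact ⟨1, by simp⟩

theorem chRes_co_val (i l : Fin (m + 1)) {W : (CohB1.ProjSpace m K).Opens} (h : W ≤ dom i) (x : W) :
    pv (chRes h (BrauerXSB.co i l)) x =
      Localization.mk (MvPolynomial.X l) ⟨(MvPolynomial.X i : MvPolynomial (Fin (m + 1)) K), h x.2⟩ := by
  refine (rfl : _ = Localization.mk (MvPolynomial.X l)
    ⟨(MvPolynomial.X i : MvPolynomial (Fin (m + 1)) K) ^ 1, PnCoh.pow_notMem (h x.2) 1⟩).trans ?_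
  simp [pow_one]

end Values

variable {k : Type u} [Field k] {A : Type u} [Ring A] [Algebra k A] {K : Type u} [Field K] [Algebra k K]
  {m N₀ : ℕ} (Φ : K ⊗[k] A ≃ₐ[K] Matrix (Fin (m + 1)) (Fin (m + 1)) K) (b : Module.Basis (Fin N₀) k A)
  (hA : Module.finrank k A = (m + 1) * (m + 1))
  {X : Scheme.{u}} {f : X ⟶ Spec (CommRingCat.of k)}
  (s : BrSev.SBStr k A ((m + 1) * (m + 1) - (m + 1)) f) {e : BrSev.Splitting f K m}
  (he : ∀ i, chart K i ≫ e.iso.inv = chartPt Φ hA s i)

local notation "𝐆" => CohB1.polyGrading m K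

/-- The rows of a section, as functions on projective space. -/
def rows (e : BrSev.Splitting f K m) (U : X.Opens) (t : Γ(taut b s, U)) (a l : Fin (m + 1)) :
    Γ(CohB1.ProjSpace m K, prP e ⁻¹ᵁ U) :=
  rowv Φ b (str (CohB1.ProjSpace.toSpec m K) _) (fun d => ((prP e).app U).hom (tco b s U t d)) a l

theorem resR_rows (U : X.Opens) (t : Γ(taut b s, U)) (a l : Fin (m + 1)) {V : X.Opens} (hVU : V ≤ U)
    {W : (CohB1.ProjSpace m K).Opens} (hWV : W ≤ prP e ⁻¹ᵁ V) (hW : W ≤ prP e ⁻¹ᵁ U) :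
    resR hW (rows Φ b s e U t a l) =
      rowv Φ b (str (CohB1.ProjSpace.toSpec m K) W)
        (fun d => ((prP e).appLE V W hWV).hom (tco b s V (res (taut b s) hVU t) d)) a l := by
  rw [rows, rowv_map, tco_res]
  refine congrArg₂ (fun β r => rowv Φ b β r a l) ?_ ?_
  · exact RingHom.ext fun r => resR_str (k := K) (CohB1.ProjSpace.toSpec m K) hW r
  · funext d
    show (((prP e).app U) ≫ (CohB1.ProjSpace m K).presheaf.map (homOfLE hW).op).hom _ =
      ((X.presheaf.map (homOfLE hVU).op) ≫ (prP e).appLE V W hWV).hom _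
    rw [Scheme.Hom.map_appLE, Scheme.Hom.appLE]

include he in
theorem rows_rel (U : X.Opens) (t : Γ(taut b s, U)) (a : Fin (m + 1)) (x : (prP e ⁻¹ᵁ U : (CohB1.ProjSpace m K).Opens))
    (i l : Fin (m + 1)) (hi : x.1 ∈ dom (K := K) i) :
    pv (rows Φ b s e U t a l) x =
      pv (rows Φ b s e U t a i) x * Localization.mk (MvPolynomial.X l) ⟨MvPolynomial.X i, hi⟩ := by
  obtain ⟨V, hV, hxV, hVU⟩ := exists_isAffineOpen_mem_and_subset (U := U) x.2
  obtain ⟨W, hW, hxW, hle⟩ := exists_isAffineOpen_mem_and_subset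
    (U := dom (K := K) i ⊓ prP e ⁻¹ᵁ V) (x := x.1) ⟨hi, hxV⟩
  have hWD : W ≤ dom i := le_trans hle inf_le_left
  have hWV : W ≤ prP e ⁻¹ᵁ V := le_trans hle inf_le_right
  have hWU : W ≤ prP e ⁻¹ᵁ U := fun y hy => hVU (hWV hy)
  have h := congrArg (fun c => pv c ⟨x.1, hxW⟩)
    (chart_rel Φ b hA s he hV hW hWD hWV (tco_mem b s hV (res (taut b s) hVU t)) a l)
  dsimp only at h
  rw [← resR_rows Φ b s U t a l hVU hWV hWU, ← resR_rows Φ b s U t a i hVU hWV hWU, pv_mul, pv_res, pv_res,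
    chRes_co_val] at h
  exact h

/-- A chart containing a point. -/
def idx (x : CohB1.ProjSpace m K) : Fin (m + 1) := (exists_dom x).choose

theorem mem_idx (x : CohB1.ProjSpace m K) : x ∈ dom (K := K) (idx x) := (exists_dom x).choose_spec

theorem rowVal_mem (U : X.Opens) (t : Γ(taut b s, U)) (a i : Fin (m + 1))
    (x : (prP e ⁻¹ᵁ U : (CohB1.ProjSpace m K).Opens)) (hi : x.1 ∈ dom (K := K) i) :
    pv (rows Φ b s e U t a i) x * Localization.mk 1 ⟨(MvPolynomial.X i : MvPolynomial (Fin (m + 1)) K), hi⟩ ∈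
      Twist.twistAt 𝐆 (-1) x.1 := by
  refine smul_frm_val i (W := (prP e ⁻¹ᵁ U) ⊓ dom i) inf_le_right
    (resR inf_le_left (rows Φ b s e U t a i)) ⟨x.1, x.2, hi⟩ ▸ ?_
  exact Subtype.prop _

/-- The underlying function of the row map. -/
def rowFun (U : X.Opens) (t : Γ(taut b s, U)) (a : Fin (m + 1))
    (x : (prP e ⁻¹ᵁ U : (CohB1.ProjSpace m K).Opens)) : Twist.twistAt 𝐆 (-1) x.1 :=
  ⟨_, rowVal_mem Φ b s U t a (idx x.1) x (mem_idx x.1)⟩

include he in
theorem rowFun_eq (U : X.Opens) (t : Γ(taut b s, U)) (a i : Fin (m + 1))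
    (x : (prP e ⁻¹ᵁ U : (CohB1.ProjSpace m K).Opens)) (hi : x.1 ∈ dom (K := K) i) :
    (rowFun Φ b s U t a x).1 =
      pv (rows Φ b s e U t a i) x * Localization.mk 1 ⟨MvPolynomial.X i, hi⟩ := by
  show pv (rows Φ b s e U t a (idx x.1)) x * Localization.mk 1 ⟨MvPolynomial.X (idx x.1), mem_idx x.1⟩ = _
  rw [rows_rel Φ b hA s he U t a x i (idx x.1) hi, mul_assoc, Localization.mk_mul]
  congr 1
  rw [Localization.mk_eq_mk_iff, Localization.r_iff_exists]
  exact ⟨1, by simp [mul_comm]⟩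

include he in
theorem rowFun_isLocFrac (U : X.Opens) (t : Γ(taut b s, U)) (a : Fin (m + 1)) :
    (Twist.isLocFracN 𝐆 (-1)).pred (rowFun (e := e) Φ b s U t a) := fun x => by
  let i := idx x.1
  obtain ⟨V, hxV, iV, p, q, a', s', nin, hdeg, w⟩ :=
    (show Twist.sectN (𝒜 := 𝐆) (-1) (op ((prP e ⁻¹ᵁ U) ⊓ dom i)) from
      (resR (inf_le_left : (prP e ⁻¹ᵁ U) ⊓ dom i ≤ prP e ⁻¹ᵁ U) (rows Φ b s e U t a i) :
        Γ(CohB1.ProjSpace m K, (prP e ⁻¹ᵁ U) ⊓ dom i)) •
        (frm (K := K) i (W := (prP e ⁻¹ᵁ U) ⊓ dom i) inf_le_right :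
          Γ(Twist.twistProjSpace m K (-1), (prP e ⁻¹ᵁ U) ⊓ dom i))).2 ⟨x.1, x.2, mem_idx x.1⟩
  refine ⟨V, hxV, iV ≫ homOfLE inf_le_left, p, q, a', s', nin, hdeg, fun y => ?_⟩
  refine Eq.trans ?_ (w y)
  refine (rowFun_eq Φ b hA s he U t a i _ (iV y).2.2).trans ?_
  exact (smul_frm_val i inf_le_right (resR inf_le_left (rows Φ b s e U t a i)) (iV y)).symm

/-- The row map as a section of `O(-1)`. -/
def rowSect (U : X.Opens) (t : Γ(taut b s, U)) (a : Fin (m + 1)) :
    Twist.sectN (𝒜 := 𝐆) (-1) (op (prP e ⁻¹ᵁ U)) :=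
  ⟨rowFun (e := e) Φ b s U t a, rowFun_isLocFrac Φ b hA s he U t a⟩

/-- The row map into the direct image of `O(-1)`. -/
def theta (a : Fin (m + 1)) :
    taut b s ⟶ (Scheme.Modules.pushforward (prP e)).obj (Twist.twistProjSpace m K (-1)) where
  val := PresheafOfModules.homMk
    { app := fun U => AddCommGrpCat.ofHom (AddMonoidHom.mk' (fun t => rowSect Φ b hA s he U.unop t a)
        fun t t' => by
          refine Subtype.ext (funext fun x => Subtype.ext ?_)
          show _ * _ = _ * _ + _ * _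
          rw [← add_mul]
          congr 1
          have : rows Φ b s e U.unop (t + t') a (idx x.1) =
              rows Φ b s e U.unop t a (idx x.1) + rows Φ b s e U.unop t' a (idx x.1) := by
            have ha : tco b s U.unop (t + t') = tco b s U.unop t + tco b s U.unop t' := tco_add b s U.unop t t'
            simp only [rows, rowv]
            rw [ha]
            simp only [Pi.add_apply, map_add, add_mul, Finset.sum_add_distrib]
          rw [this]
          exact pv_add _ _ x)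
      naturality := fun U V i => by
        ext t
        refine Subtype.ext (funext fun x => Subtype.ext ?_)
        show pv (rows Φ b s e V.unop (res (taut b s) i.unop.le t) a (idx x.1)) x * _ =
          pv (rows Φ b s e U.unop t a (idx x.1)) ⟨x.1, i.unop.le x.2⟩ * _
        have h : rows Φ b s e V.unop (res (taut b s) i.unop.le t) a (idx x.1) =
            resR (fun y (hy : y ∈ prP e ⁻¹ᵁ V.unop) => i.unop.le hy) (rows Φ b s e U.unop t a (idx x.1)) := by
          rw [rows, rows, rowv_map, tco_res]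
          refine congrArg₂ (fun β r => rowv Φ b β r a (idx x.1)) ?_ ?_
          · exact RingHom.ext fun r => (resR_str _ _ r).symm
          · funext d
            exact congr($((prP e).naturality i) (tco b s U.unop t d))
        rw [h, pv_res]
        rfl }
    fun U r t => by
      refine Subtype.ext (funext fun x => Subtype.ext ?_)
      refine Eq.trans ?_ (Twist.coe_smul_val _ _ _ _).symm
      show pv (rows Φ b s e U.unop (r • t) a (idx x.1)) x * _ =
        pv (((prP e).app U.unop).hom r) x * (pv (rows Φ b s e U.unop t a (idx x.1)) x * _)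
      rw [← mul_assoc, ← pv_mul]
      congr 2
      rw [rows, rows, tco_smul]
      simp only [rowv, Pi.smul_apply, smul_eq_mul, map_mul, mul_assoc, ← Finset.mul_sum]

/-- The value of the row map. -/
theorem theta_app_res (a : Fin (m + 1)) (U : X.Opens) (t : Γ(taut b s, U)) {i : Fin (m + 1)}
    {W : (CohB1.ProjSpace m K).Opens} (hWD : W ≤ dom i) (hW : W ≤ prP e ⁻¹ᵁ U) :
    res (Twist.twistProjSpace m K (-1)) hW
      (show Γ(Twist.twistProjSpace m K (-1), prP e ⁻¹ᵁ U) from (theta Φ b hA s he a).app U t) =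
      resR hW (rows Φ b s e U t a i) • frm i hWD := by
  refine Subtype.ext (funext fun x => Subtype.ext ?_)
  refine Eq.trans ?_ (smul_frm_val i hWD _ x).symm
  exact rowFun_eq Φ b hA s he U t a i ⟨x.1, hW x.2⟩ (hWD x.2)

end Groth.Agent.SBTw92
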